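import Cfsg.Agent.Lib.Block.DefiningChar.Count
import Mathlib.Data.Nat.ModEq
import Mathlib.Data.Nat.ChineseRemainder

/-!
# A criterion for all defect groups to be trivial or Sylow subgroups
-/

set_option autoImplicit false

namespace CfsgLib.Block.DefectLie

open Cfsg CfsgLib.Block

universe u v

/-- every non-trivial `p`-subgroup that is not Sylow lies in a `p`-subgroup that meets no conjugate
in it by a non-central `p`-regular element of its centralizer -/
def Crit (p : ℕ) (G : Type u) [Group G] : Prop :=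
  ∀ D : Subgroup G, IsPGroup p D → D ≠ ⊥ → (∃ S : Sylow p G, (S : Subgroup G) = D) ∨
    ∃ P : Subgroup G, IsPGroup p P ∧ D ≤ P ∧ ∀ x : G, ¬ p ∣ orderOf x → (∀ u ∈ D, Commute u x) →
      P ⊓ P.map (MulAut.conj x).toMonoidHom = D → x ∈ Subgroup.center G

variable {p : ℕ} {G : Type u} [Group G]

theorem crit_of_radicalCentral (h : DefiningChar.RadicalCentral p G) : Crit p G :=
  fun D hD hne => Or.inr (h D hD hne)

theorem defect_zero_or_full [Finite G] {M : Ideal AlgInt} (hM : IsPModular p M) (h : Crit p G)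
    {B : Set (IrrCharacter G)} (hB : IsPBlock M B) :
    blockDefect p B = 0 ∨ blockDefect p B = (Nat.card G).factorization p := by
  classical
  have := hM.2.1
  have hpf : Fact p.Prime := ⟨hM.1⟩
  have := Fintype.ofFinite G
  have := Fintype.ofFinite (IrrCharacter G)
  obtain ⟨D, hD⟩ := exists_defectGroup hM hB
  have hcard := defectGroup_card hM hB hD
  have hDp : IsPGroup p D := IsPGroup.of_card hcard
  rcases eq_or_ne D ⊥ with rfl | hne
  · rw [Subgroup.card_bot] at hcard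
    exact Or.inl (Nat.pow_right_injective hM.1.two_le (hcard.symm.trans (pow_zero p).symm))
  right
  rcases h D hDp hne with ⟨S, hS⟩ | ⟨P, hP, hDP, hPx⟩
  · rw [← hS, Sylow.card_eq_multiplicity] at hcard
    exact (Nat.pow_right_injective hM.1.two_le hcard).symm
  · obtain ⟨x, hx, hxD, hxe⟩ := exists_sylow_inf_conj_eq_defectGroup hM hB hD hP hDP
    have hc := hxD.card_eq
    rw [DefiningChar.centralizer_of_mem_center (hPx x hx hxD.commute hxe), Subgroup.card_top, hcard] at hc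
    exact Nat.pow_right_injective hM.1.two_le hc

theorem Crit.of_equiv {H : Type v} [Group H] (h : Crit p H) (e : G ≃* H) : Crit p G := by
  intro D hD hne
  have hne' : D.map e.toMonoidHom ≠ ⊥ := fun h0 =>
    hne ((Subgroup.map_eq_bot_iff_of_injective D e.injective).1 h0)
  rcases h _ (hD.map _) hne' with ⟨S, hS⟩ | ⟨P, hP, hDP, hPx⟩
  · refine Or.inl ⟨S.comapOfInjective e.toMonoidHom e.injective (fun x _ => e.surjective x), ?_⟩
    show Subgroup.comap e.toMonoidHom (S : Subgroup H) = D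
    rw [hS]
    exact Subgroup.comap_map_eq_self_of_injective e.injective D
  · refine Or.inr ⟨P.comap e.toMonoidHom, hP.comap_of_injective _ e.injective, fun d hd =>
      hDP ⟨d, hd, rfl⟩, fun x hx hxc hxe => ?_⟩
    have hxP : P ⊓ P.map (MulAut.conj (e x)).toMonoidHom = D.map e.toMonoidHom := by
      rw [← hxe]
      ext y
      obtain ⟨z, rfl⟩ := e.surjective y
      show e.toMonoidHom z ∈ _ ↔ e.toMonoidHom z ∈ _
      rw [Subgroup.mem_map_iff_mem (f := e.toMonoidHom) e.injective]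
      simp only [Subgroup.mem_map_equiv, MulAut.conj_symm_apply, Subgroup.mem_inf, Subgroup.mem_comap,
        MulEquiv.coe_toMonoidHom, map_mul, map_inv]
    have := hPx (e x) (by rwa [MulEquiv.orderOf_eq]) (by
      rintro _ ⟨d, hd, rfl⟩; exact (hxc d hd).map e.toMonoidHom) hxP
    rw [Subgroup.mem_center_iff] at this ⊢
    exact fun g => e.injective (by rw [map_mul, map_mul]; exact this (e g))

/-- a normalized witness gives the criterion -/
theorem crit_of_witness [Finite G] [Fact p.Prime]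
    (h : ∀ D : Subgroup G, IsPGroup p D → D ≠ ⊥ → ∃ R : Subgroup G, IsPGroup p R ∧
      (∀ g, (g ∈ D ∨ ∀ u ∈ D, Commute u g) → ∀ r ∈ R, g * r * g⁻¹ ∈ R) ∧
      ∀ x, ¬ p ∣ orderOf x → (∀ u ∈ D, Commute u x) → (∀ r ∈ R, Commute r x) → x ∈ Subgroup.center G) :
    Crit p G := by
  intro D hD hne
  obtain ⟨R, hR, hN, hC⟩ := h D hD hne
  have hDN : D ≤ Subgroup.normalizer (R : Set G) := fun d hd => Subgroup.mem_normalizer_iff.2 fun r =>
    ⟨hN d (Or.inl hd) r, fun hr => by simpa [mul_assoc] using hN d⁻¹ (Or.inl (inv_mem hd)) _ hr⟩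
  refine Or.inr ⟨D ⊔ R, hD.to_sup_of_normal_right' hR hDN, le_sup_left, fun x hx hxc hxe =>
    hC x hx hxc fun r hr => hxc r (hxe.le (Subgroup.mem_inf.2 ⟨Subgroup.mem_sup_right hr, ?_⟩))⟩
  refine ⟨x⁻¹ * r * x, Subgroup.mem_sup_right ?_, by simp [mul_assoc]⟩
  simpa using hN x⁻¹ (Or.inr fun u hu => (hxc u hu).inv_right) r hr

/-- the criterion passes to a quotient by a central subgroup of order prime to `p` -/
theorem Crit.quotient {H : Type v} [Group H] [Finite G] [Finite H] [Fact p.Prime] (h : Crit p G)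
    (π : G →* H) (hπ : Function.Surjective π) (hker : π.ker ≤ Subgroup.center G)
    (hcop : ∀ z ∈ π.ker, ∀ k : ℕ, z ^ p ^ k = 1 → z = 1) : Crit p H := by
  intro D hD hne
  obtain ⟨E⟩ : Nonempty (Sylow p ↥(D.comap π)) := inferInstance
  obtain ⟨D', hD'⟩ : ∃ D', D' = (E : Subgroup ↥(D.comap π)).map (D.comap π).subtype := ⟨_, rfl⟩
  have hD'p : IsPGroup p D' := hD' ▸ E.isPGroup'.map _
  have hker' : ∀ d ∈ D', π d = 1 → d = 1 := fun d hd h1 => by
    obtain ⟨k, hk⟩ := hD'p ⟨d, hd⟩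
    exact hcop d h1 k (congrArg Subtype.val hk)
  have hD'c : ∀ d ∈ D', π d ∈ D := fun d hd => by
    rw [hD'] at hd
    obtain ⟨e, -, rfl⟩ := hd
    exact e.2
  -- the image is everything
  have himg : ∀ y ∈ D, ∃ d ∈ D', π d = y := by
    intro y hy
    obtain ⟨g, rfl⟩ := hπ y
    have htop : ∀ z : ↥(D.comap π), ∃ d ∈ (E : Subgroup ↥(D.comap π)), π (d : G) = π (z : G) := by
      intro z
      let f : ↥(D.comap π) →* ↥D := π.subgroupComap D
      have hf : Function.Surjective f := π.subgroupComap_surjective_of_surjective D hπ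
      have hmap : (E.mapSurjective hf : Subgroup ↥D) = ⊤ :=
        ((E.mapSurjective hf).is_maximal' (hD.to_subgroup ⊤) le_top).symm
      obtain ⟨d, hd, he⟩ := (hmap.ge (Subgroup.mem_top (f z)) : f z ∈ (E : Subgroup ↥(D.comap π)).map f)
      exact ⟨d, hd, congrArg Subtype.val he⟩
    obtain ⟨d, hd, he⟩ := htop ⟨g, hy⟩
    exact ⟨d, hD' ▸ ⟨d, hd, rfl⟩, he⟩
  have hne' : D' ≠ ⊥ := fun h0 => hne ((Subgroup.eq_bot_iff_forall D).2 fun y hy => by
    obtain ⟨d, hd, rfl⟩ := himg y hy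
    rw [h0, Subgroup.mem_bot] at hd
    rw [hd, map_one])
  rcases h D' hD'p hne' with ⟨S, hS⟩ | ⟨P, hP, hDP, hPx⟩
  · refine Or.inl ⟨S.mapSurjective hπ, ?_⟩
    rw [Sylow.coe_mapSurjective, hS]
    refine le_antisymm (fun y hy => ?_) fun y hy => ?_
    · obtain ⟨d, hd, rfl⟩ := hy; exact hD'c d hd
    · obtain ⟨d, hd, rfl⟩ := himg y hy; exact ⟨d, hd, rfl⟩
  refine Or.inr ⟨P.map π, hP.map π, fun y hy => ?_, fun x hx hxc hxe => ?_⟩
  · obtain ⟨d, hd, rfl⟩ := himg y hy; exact ⟨d, hDP hd, rfl⟩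
  obtain ⟨g, rfl⟩ := hπ x
  -- a p-regular lift
  obtain ⟨n, m, hm, hn⟩ := Nat.exists_eq_pow_mul_and_not_dvd (orderOf_pos g).ne' p
    (Fact.out : p.Prime).ne_one
  obtain ⟨k, hk1, hk0⟩ := Nat.chineseRemainder
    (Nat.Coprime.pow_right n ((Fact.out : p.Prime).coprime_iff_not_dvd.2 hx).symm) 1 0
  obtain ⟨x, hxdef⟩ : ∃ x, x = g ^ k := ⟨_, rfl⟩
  have hπx : π x = π g := by
    rw [hxdef, map_pow]
    exact (pow_eq_pow_iff_modEq.2 hk1).trans (pow_one _)
  have hxp : ¬ p ∣ orderOf x := fun hdvd => hm (hdvd.trans (orderOf_dvd_of_pow_eq_one (by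
    obtain ⟨c, rfl⟩ := Nat.modEq_zero_iff_dvd.1 hk0
    rw [hxdef, ← pow_mul, show p ^ n * c * m = p ^ n * m * c by ring, ← hn, pow_mul, pow_orderOf_eq_one,
      one_pow])))
  have hxD : ∀ d ∈ D', Commute d x := by
    intro d hd
    have hz : π (x * d * x⁻¹ * d⁻¹) = 1 := by
      have := (hxc _ (hD'c d hd)).eq
      rw [map_mul, map_mul, map_mul, map_inv, map_inv, hπx, ← this, mul_inv_cancel_right, mul_inv_cancel]
    have hzc : Commute (x * d * x⁻¹ * d⁻¹) d := ((Subgroup.mem_center_iff.1 (hker hz)) d).symm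
    obtain ⟨a, ha⟩ := hD'p ⟨d, hd⟩
    have ha' : d ^ p ^ a = 1 := congrArg Subtype.val ha
    have h1 := hzc.mul_pow (p ^ a)
    rw [inv_mul_cancel_right, conj_pow, ha', mul_one, mul_one, mul_inv_cancel] at h1
    have h2 := hcop _ hz a h1.symm
    rw [mul_inv_eq_one, mul_inv_eq_iff_eq_mul] at h2
    exact h2.symm
  have hPe : P ⊓ P.map (MulAut.conj x).toMonoidHom = D' := by
    refine le_antisymm ?_ fun d hd => ⟨hDP hd, ⟨d, hDP hd, by
      show x * d * x⁻¹ = d
      rw [← (hxD d hd).eq, mul_inv_cancel_right]⟩⟩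
    rintro y ⟨hy, z, hz, rfl⟩
    have hy' : x * z * x⁻¹ ∈ P := hy
    obtain ⟨d, hd, he⟩ := himg (π (x * z * x⁻¹)) (hxe.le ⟨⟨_, hy', rfl⟩, π z, ⟨_, hz, rfl⟩, by
      show π g * π z * (π g)⁻¹ = _
      rw [map_mul, map_mul, map_inv, hπx]⟩)
    have hw : d⁻¹ * (x * z * x⁻¹) ∈ P := mul_mem (inv_mem (hDP hd)) hy'
    obtain ⟨a, ha⟩ := hP ⟨_, hw⟩
    have h1 := hcop (d⁻¹ * (x * z * x⁻¹)) (by rw [MonoidHom.mem_ker, map_mul, map_inv, he, inv_mul_cancel]) a
      (congrArg Subtype.val ha)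
    show x * z * x⁻¹ ∈ D'
    rw [← inv_mul_eq_one.1 h1]
    exact hd
  have hcen := Subgroup.mem_center_iff.1 (hPx x hxp hxD hPe)
  rw [← hπx]
  refine Subgroup.mem_center_iff.2 fun y => ?_
  obtain ⟨a, rfl⟩ := hπ y
  rw [← map_mul, ← map_mul, hcen a]

end CfsgLib.Block.DefectLie
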