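import Cfsg.Agent.Lib.Block.DefectLie.Coxeter
import Cfsg.Agent.Lib.Block.DefectLie.Crit
import Cfsg.Agent.Lib.Lie.CentralAut.BNRoute
import Cfsg.Agent.Lib.Lie.Iwahori.BNCentre

/-!
# Split BN-pairs: no intersection of a Sylow subgroup with a centralizing conjugate is proper

If a non-trivial `D` is the intersection of every Sylow subgroup above it with its conjugate by some
element centralizing `D`, then seen from two adjacent chambers the Weyl element of the intersection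
commutes with its ascents, and the two sets of ascents contradict irreducibility.
-/

set_option autoImplicit false
set_option linter.style.haveILetI false
set_option linter.unusedSectionVars false

namespace CfsgLib.Block.DefectLie

open CfsgLib.Lie.BN CfsgLib.Lie.CentralAut CfsgLib.Lie.Iwahori

universe u

variable {G : Type u} [Group G] {p : ℕ} {P : Cfsg.BNPair G} {U : Sylow p G}

theorem normal_torus (P : Cfsg.BNPair G) : ((P.B ⊓ P.N).subgroupOf P.N).Normal := by
  refine ⟨fun t ht n => ?_⟩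
  rw [Subgroup.mem_subgroupOf] at ht ⊢
  exact ⟨T_conj' P n.2 ht, P.N.mul_mem (P.N.mul_mem n.2 t.2) (P.N.inv_mem n.2)⟩

local notation "wrep" => CfsgLib.Lie.Iwahori.rep

variable [hN : ((P.B ⊓ P.N).subgroupOf P.N).Normal]

/-- the stabiliser of the chamber of a Weyl element -/
noncomputable def StW (P : Cfsg.BNPair G) [((P.B ⊓ P.N).subgroupOf P.N).Normal] (U : Sylow p G) (w : WQ P) :
    Subgroup G :=
  St P U (wrep P w)

theorem StW_mk {n : G} (hn : n ∈ P.N) : StW P U (QuotientGroup.mk ⟨n, hn⟩) = St P U n :=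
  St_congr (eqv_rep P hn)

theorem eqv_rep_mul (s : P.S) (w : WQ P) : Eqv P (wrep P (sw P s * w)) ((s : G) * wrep P w) := by
  rw [sw_mul]
  exact eqv_rep P _

theorem StW_sw_mul (s : P.S) (w : WQ P) : StW P U (sw P s * w) = St P U ((s : G) * wrep P w) :=
  St_congr (eqv_rep_mul s w)

theorem StW_sw (s : P.S) : StW P U (sw P s) = St P U (s : G) := StW_mk (P.subset s.2)

variable (d : SplitBN p P U)
include d

theorem StW_one : StW P U 1 = (U : Subgroup G) := by
  rw [show (1 : WQ P) = QuotientGroup.mk ⟨1, P.N.one_mem⟩ from rfl, StW_mk]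
  ext x
  rw [mem_St]
  exact ⟨And.left, fun hx => ⟨hx, by simpa using d.le_B hx⟩⟩

theorem St_step {s m : G} (hs : s ∈ P.S) (hm : m ∈ P.N) (hlen : len P m < len P (s * m)) :
    St P U (s * m) ≤ St P U s := by
  by_cases hmB : m ∈ P.B
  · rw [St_congr (g := s * m) (g' := s) (by
      rw [show (s * m)⁻¹ * s = m⁻¹ by group]; exact P.B.inv_mem hmB)]
  · exact (d.St_lt hs hm hmB hlen).le

/-- an ascent lets the stabiliser move the neighbours as `U` does -/
theorem exists_same_neighbour {s m u : G} (hs : s ∈ P.S) (hm : m ∈ P.N) (hlen : len P m < len P (s * m))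
    (hu : u ∈ (U : Subgroup G)) : ∃ v ∈ St P U m, s⁻¹ * v⁻¹ * u * s ∈ P.B := by
  have hss : (s * s)⁻¹ ∈ P.B := P.B.inv_mem (P.sq_mem s hs)
  have h1 : s⁻¹ * u⁻¹ * m ∈ cell P (s * m) := by
    rw [show s⁻¹ * u⁻¹ * m = s * ((s * s)⁻¹ * u⁻¹) * m by group]
    exact left_mem_cell P hs hm hlen.le (mul_mem hss (P.B.inv_mem (d.le_B hu)))
  have h2 : s⁻¹ * m ∈ cell P (s * m) := by
    rw [show s⁻¹ * m = s * (s * s)⁻¹ * m by group]
    exact left_mem_cell P hs hm hlen.le hss
  rw [← cell_eq_of_mem P h2] at h1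
  obtain ⟨b1, hb1, b2, hb2, he⟩ := (mem_cell P).1 h1
  obtain ⟨x, hx⟩ : ∃ x, x = u * s * b1 * s⁻¹ := ⟨_, rfl⟩
  have hxm : x * m = m * b2⁻¹ := by
    rw [hx, show u * s * b1 * s⁻¹ * m = u * s * (b1 * (s⁻¹ * m) * b2) * b2⁻¹ by group, ← he]
    group
  have hxB : x ∈ P.B := by
    rcases left_rule P hs (S_mem P hs) (b := b1 * (s * s)⁻¹) (mul_mem hb1 hss) with h | h
    · rw [show s * (b1 * (s * s)⁻¹) * s = s * b1 * s⁻¹ by group] at h
      rw [hx, show u * s * b1 * s⁻¹ = u * (s * b1 * s⁻¹) by group]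
      exact mul_mem (d.le_B hu) ((cell_of_mem_B P (P.sq_mem s hs)).1 h)
    · exfalso
      rw [show s * (b1 * (s * s)⁻¹) * s = s * b1 * s⁻¹ by group] at h
      obtain ⟨b3, h3, b4, h4, he'⟩ := (mem_cell P).1 h
      have h5 : x * m ∈ cell P (s * m) := by
        rw [show x * m = u * b3 * (s * b4 * m) by
          rw [hx, show u * s * b1 * s⁻¹ = u * (s * b1 * s⁻¹) by group, he']; group]
        exact cell_mul_left P (mul_mem (d.le_B hu) h3) (left_mem_cell P hs hm hlen.le h4)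
      have h6 : x * m ∈ cell P m := hxm ▸ cell_mul_right P (P.B.inv_mem hb2) (mem_cell_self P m)
      have := len_congr P (P.N.mul_mem (S_mem P hs) hm) hm
        (eqv_of_mem_cell P (P.N.mul_mem (S_mem P hs) hm) hm h5 h6)
      omega
  obtain ⟨v, hv, t, ht, hxv⟩ := d.split x hxB
  refine ⟨v, mem_St.2 ⟨hv, ?_⟩, ?_⟩
  · rw [show m⁻¹ * v * m = m⁻¹ * (x * m) * (m⁻¹ * t * m)⁻¹ by rw [hxv]; group, hxm]
    exact mul_mem (by simpa using P.B.inv_mem hb2) (P.B.inv_mem (T_conj P hm ht))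
  · rw [show s⁻¹ * v⁻¹ * u * s = (s⁻¹ * v⁻¹ * x * s) * b1⁻¹ by rw [hx]; group, hxv,
      show s⁻¹ * v⁻¹ * (v * t) * s = s⁻¹ * t * s by group]
    exact mul_mem (T_conj P (S_mem P hs) ht) (P.B.inv_mem hb1)

/-- the stabiliser of an element moves all the neighbours in the direction of an ascent -/
theorem not_le_of_ascent {s m b : G} (hs : s ∈ P.S) (hm : m ∈ P.N) (hlen : len P m < len P (s * m))
    (hb : b ∈ P.B) : ¬ St P U m ≤ St P U (b * s) := by
  intro hle
  obtain ⟨u, hu, t, ht, rfl⟩ := d.split b hb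
  obtain ⟨v, hv, hvB⟩ := exists_same_neighbour d hs hm hlen hu
  have e : St P U (u * t * s) = St P U (v * s) := by
    refine (St_congr ?_).trans (St_congr (g := u * s) ?_)
    · rw [show (u * t * s)⁻¹ * (u * s) = (s⁻¹ * t * s)⁻¹ by group]
      exact P.B.inv_mem (T_conj P (S_mem P hs) ht)
    · rw [show (u * s)⁻¹ * (v * s) = (s⁻¹ * v⁻¹ * u * s)⁻¹ by group]
      exact P.B.inv_mem hvB
  rw [e] at hle
  have hls : St P U m ≤ St P U s := fun y hy =>
    (d.conj_St (g := s) (d.le_B (mem_St.1 hv).1)).1 (hle (mul_mem (mul_mem hv hy) (inv_mem hv)))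
  refine (d.St_simple_lt hs).not_ge fun w hw => mem_St.2 ⟨hw, ?_⟩
  obtain ⟨v', hv', hv'B⟩ := exists_same_neighbour d hs hm hlen hw
  rw [show s⁻¹ * w * s = (s⁻¹ * v' * s) * (s⁻¹ * v'⁻¹ * w * s) by group]
  exact mul_mem (mem_St.1 (hls hv')).2 hv'B

theorem lt_of_ascent {s : P.S} {w : WQ P} (h : lenW P (sw P s * w) = lenW P w + 1) :
    len P (wrep P w) < len P ((s : G) * wrep P w) := by
  rw [sw_mul, lenW_mk] at h
  show lenW P w < _
  omega

/-- the stabiliser of an element moves all the neighbours in the direction of an ascent -/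
theorem not_StW_le {s : P.S} {w : WQ P} {b : G} (h : lenW P (sw P s * w) = lenW P w + 1) (hb : b ∈ P.B) :
    ¬ StW P U w ≤ St P U (b * (s : G)) :=
  not_le_of_ascent d s.2 (rep_mem P w) (lt_of_ascent d h) hb

variable [Fact p.Prime] [Finite G]

theorem mem_U_conj {g x : G} (hx : x ∈ (U : Subgroup G)) (h : g⁻¹ * x * g ∈ P.B) :
    g⁻¹ * x * g ∈ (U : Subgroup G) := by
  simpa using d.mem_U_of_conj (g := g⁻¹) hx (by simpa using h)

/-- stabilisers shrink along reduced products -/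
theorem StW_prefix : ∀ (k : ℕ) (a b : WQ P), lenW P a = k → lenW P (a * b) = k + lenW P b →
    StW P U (a * b) ≤ StW P U a := by
  intro k
  induction k with
  | zero =>
    intro a b ha _
    rw [lenW_eq_one P a ha, StW_one d]
    exact inf_le_left
  | succ k ih =>
    intro a b ha hab x hx
    obtain ⟨s, hs⟩ := (lenSys P).descent a (show lenW P a ≠ 0 by omega)
    obtain ⟨a', rfl⟩ : ∃ a', a = sw P s * a' := ⟨sw P s * a, by rw [← mul_assoc, sw_sq, one_mul]⟩
    simp only [lenSys] at hs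
    rw [← mul_assoc, sw_sq, one_mul] at hs
    have h1 : lenW P (a' * b) ≤ lenW P a' + lenW P b := len_mul_le (lenSys P) a' b
    have h2 : lenW P (sw P s * (a' * b)) = lenW P (a' * b) + 1 := by
      rcases lenW_left P s (a' * b) with e | e
      · exact e
      · rw [mul_assoc] at hab; omega
    rw [mul_assoc, StW_sw_mul] at hx
    have hxs := St_step d s.2 (rep_mem P (a' * b)) (lt_of_ascent d h2) hx
    obtain ⟨hxU, hxB⟩ := mem_St.1 hx
    have hy : (s : G)⁻¹ * x * s ∈ StW P U (a' * b) := by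
      refine mem_St.2 ⟨mem_U_conj d hxU (mem_St.1 hxs).2, ?_⟩
      rwa [show (wrep P (a' * b))⁻¹ * ((s : G)⁻¹ * x * s) * wrep P (a' * b) =
        ((s : G) * wrep P (a' * b))⁻¹ * x * ((s : G) * wrep P (a' * b)) by group]
    have hy' := ih a' b (by omega) (by rw [mul_assoc] at hab; omega) hy
    rw [StW_sw_mul]
    refine mem_St.2 ⟨hxU, ?_⟩
    rw [show ((s : G) * wrep P a')⁻¹ * x * ((s : G) * wrep P a') =
      (wrep P a')⁻¹ * ((s : G)⁻¹ * x * s) * wrep P a' by group]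
    exact (mem_St.1 hy').2

theorem StW_le_simple {s : P.S} {w : WQ P} (h : lenW P (sw P s * w) + 1 = lenW P w) :
    StW P U w ≤ St P U (s : G) := by
  have h1 := StW_prefix d 1 (sw P s) (sw P s * w) ((lenSys P).len_f s)
    (by rw [← mul_assoc, sw_sq, one_mul]; omega)
  rwa [← mul_assoc, sw_sq, one_mul, StW_sw] at h1

/-- the root group of an ascent lies in the stabiliser -/
theorem root_le {w0 : WQ P} (h0 : ∀ i, lenW P (sw P i * w0) + 1 = lenW P w0) {s : P.S} {w : WQ P}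
    (h : lenW P (sw P s * w) = lenW P w + 1) : StW P U (sw P s * w0) ≤ StW P U w := by
  have a := len_longest (lenSys P) h0 _ (sw P s * w) rfl
  have b := h0 s
  simp only [lenSys] at a
  rw [_root_.mul_inv_rev, show (sw P s)⁻¹ = sw P s from (lenSys P).inv_f s, mul_assoc] at a
  have h1 := StW_prefix d _ w (w⁻¹ * (sw P s * w0)) rfl (by rw [mul_inv_cancel_left]; omega)
  rwa [mul_inv_cancel_left] at h1

/-- the Weyl element of a centralized intersection commutes with its ascents -/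
theorem shape {w0 : WQ P} (h0 : ∀ i, lenW P (sw P i * w0) + 1 = lenW P w0) (x : G)
    (hx : ∀ z ∈ St P U x, Commute z x) :
    ∃ b ∈ P.B, ∃ w : WQ P, St P U x = St P U (b * wrep P w) ∧
      ∀ s, lenW P (sw P s * w) = lenW P w + 1 → sw P s * w = w * sw P s := by
  obtain ⟨n, hn, hxn⟩ := exists_cell P x
  obtain ⟨b, hb, b', hb', rfl⟩ := (mem_cell P).1 hxn
  obtain ⟨w, hw⟩ : ∃ w : WQ P, w = QuotientGroup.mk ⟨n, hn⟩ := ⟨_, rfl⟩
  have hStx : St P U (b * n * b') = St P U (b * n) := St_congr (by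
    rw [show (b * n * b')⁻¹ * (b * n) = b'⁻¹ by group]; exact P.B.inv_mem hb')
  have hwn : StW P U w = St P U n := by rw [hw, StW_mk]
  refine ⟨b, hb, w, hStx.trans (St_congr ?_), fun s hs => ?_⟩
  · rw [show (b * n)⁻¹ * (b * wrep P w) = n⁻¹ * wrep P w by group, hw]
    exact (eqv_rep P hn).symm
  obtain ⟨c, hc, hcB⟩ : ∃ c, c = b' * b ∧ c ∈ P.B := ⟨_, rfl, mul_mem hb' hb⟩
  have hcomm : ∀ z ∈ St P U n, c * z * c⁻¹ = n⁻¹ * z * n := by
    intro z hz
    have h := (hx _ (hStx.ge ((d.conj_St hb).2 hz))).eq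
    rw [hc, show b' * b * z * (b' * b)⁻¹ = n⁻¹ * b⁻¹ * (b * n * b' * (b * z * b⁻¹)) * b'⁻¹ by group, ← h]
    group
  obtain ⟨z, hz, hzn⟩ : ∃ z ∈ StW P U (sw P s * w0), z ∉ St P U (c⁻¹ * (s : G)) :=
    SetLike.not_le_iff_exists.1 (not_StW_le d (s := s) (by
      rw [← mul_assoc, sw_sq, one_mul]; exact (h0 s).symm) (P.B.inv_mem hcB))
  have hzw : z ∈ St P U n := hwn ▸ root_le d h0 hs hz
  have hzns : z ∉ St P U (n * (s : G)) := by
    intro h
    refine hzn ((d.conj_St (g := c⁻¹ * (s : G)) hcB).1 ?_)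
    rw [hcomm z hzw, show c * (c⁻¹ * (s : G)) = s by group]
    refine mem_St.2 ⟨mem_U_conj d (mem_St.1 hzw).1 (mem_St.1 hzw).2, ?_⟩
    rw [show (s : G)⁻¹ * (n⁻¹ * z * n) * s = (n * (s : G))⁻¹ * z * (n * (s : G)) by group]
    exact (mem_St.1 h).2
  have hdesc : lenW P (sw P s * (w * sw P s)) + 1 = lenW P (w * sw P s) := by
    rcases lenW_left P s (w * sw P s) with e | e
    · exfalso
      refine hzns ?_
      have h1 := root_le d h0 e hz
      rwa [hw, sw, ← QuotientGroup.mk_mul, show (⟨n, hn⟩ : ↥P.N) * ⟨(s : G), P.subset s.2⟩ =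
        ⟨n * (s : G), P.N.mul_mem hn (P.subset s.2)⟩ from rfl, StW_mk] at h1
    · exact e
  have hr := (lenSys P).right_cases s w
  have hr' := (lenSys P).right_cases s (sw P s * w)
  simp only [lenSys] at hr hr'
  rw [← mul_assoc] at hdesc
  refine (lenSys P).key s s w ?_ ?_
  · show lenW P (sw P s * w * sw P s) = lenW P w
    omega
  · show lenW P (sw P s * w) = lenW P (w * sw P s)
    omega

omit d

/-- every group with an irreducible split BN-pair meets the criterion -/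
theorem crit_bn (d : SplitBN p P U) (hirr : P.Irreducible) {n0 : G} (hn0 : n0 ∈ P.N)
    (h0 : St P U n0 = ⊥) : Crit p G := by
  classical
  haveI : Finite (WQ P) := Quotient.finite _
  obtain ⟨w0, hw0⟩ : ∃ w0 : WQ P, w0 = QuotientGroup.mk ⟨n0, hn0⟩ := ⟨_, rfl⟩
  have hbot : StW P U w0 = ⊥ := by rw [hw0, StW_mk, h0]
  have hlong : ∀ i, lenW P (sw P i * w0) + 1 = lenW P w0 := fun i =>
    (lenW_left P i w0).resolve_left fun e => not_StW_le d e P.B.one_mem (hbot ▸ bot_le)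
  intro D hD hne
  by_contra hcon
  obtain ⟨hns, hP⟩ : (∀ S : Sylow p G, (S : Subgroup G) ≠ D) ∧
      ∀ Q : Subgroup G, IsPGroup p Q → D ≤ Q → ∃ x : G, (∀ u ∈ D, Commute u x) ∧
        Q ⊓ Q.map (MulAut.conj x).toMonoidHom = D := by
    rw [not_or, not_exists] at hcon
    refine ⟨hcon.1, fun Q hQ hDQ => ?_⟩
    by_contra h
    exact hcon.2 ⟨Q, hQ, hDQ, fun x _ hxc hxe => absurd ⟨x, hxc, hxe⟩ h⟩
  -- seen from a chamber fixed by `D`
  have hat : ∀ g : G, (∀ z ∈ D, g⁻¹ * z * g ∈ (U : Subgroup G)) →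
      ∃ x : G, (∀ y, y ∈ St P U x ↔ g * y * g⁻¹ ∈ D) ∧ ∀ y ∈ St P U x, Commute y x := by
    intro g hg
    obtain ⟨Q, hQ⟩ : ∃ Q, Q = (U : Subgroup G).map (MulAut.conj g).toMonoidHom := ⟨_, rfl⟩
    have hmem : ∀ z, z ∈ Q ↔ g⁻¹ * z * g ∈ (U : Subgroup G) := fun z => by
      rw [hQ, Subgroup.mem_map_equiv, MulAut.conj_symm_apply]
    obtain ⟨x, hxc, hxe⟩ := hP Q (hQ ▸ U.isPGroup'.map _) fun z hz => (hmem z).2 (hg z hz)
    have hiff : ∀ y, y ∈ St P U (g⁻¹ * x * g) ↔ g * y * g⁻¹ ∈ D := by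
      intro y
      rw [← hxe, Subgroup.mem_inf, Subgroup.mem_map_equiv, MulAut.conj_symm_apply, hmem, hmem, mem_St,
        show g⁻¹ * (g * y * g⁻¹) * g = y by group,
        show g⁻¹ * (x⁻¹ * (g * y * g⁻¹) * x) * g = (g⁻¹ * x * g)⁻¹ * y * (g⁻¹ * x * g) by group]
      exact and_congr_right fun hy => ⟨fun h => mem_U_conj d hy h, fun h => d.le_B h⟩
    refine ⟨g⁻¹ * x * g, hiff, fun y hy => ?_⟩
    have h := (hxc _ ((hiff y).1 hy)).map (MulAut.conj g⁻¹).toMonoidHom
    simpa [mul_assoc] using h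
  obtain ⟨g1, hg1⟩ : ∃ g1 : G, ∀ z ∈ D, g1⁻¹ * z * g1 ∈ (U : Subgroup G) := by
    obtain ⟨S, hS⟩ := hD.exists_le_sylow
    obtain ⟨g, rfl⟩ := MulAction.exists_smul_eq G U S
    refine ⟨g, fun z hz => ?_⟩
    obtain ⟨u, hu, he⟩ := hS hz
    rw [← he]
    simp only [MulDistribMulAction.toMonoidEnd_apply, MulDistribMulAction.toMonoidHom_apply]
    show g⁻¹ * (g * u * g⁻¹) * g ∈ (U : Subgroup G)
    rw [show g⁻¹ * (g * u * g⁻¹) * g = u by group]
    exact hu
  obtain ⟨x1, hx1, hx1c⟩ := hat g1 hg1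
  obtain ⟨b, hb, w, hw, hwc⟩ := shape d hlong x1 hx1c
  obtain ⟨g0, hg0⟩ : ∃ g0, g0 = g1 * b := ⟨_, rfl⟩
  have hD0 : ∀ z, z ∈ StW P U w ↔ g0 * z * g0⁻¹ ∈ D := fun z => by
    rw [StW, ← d.conj_St hb, ← hw, hx1, hg0]
    simp [mul_assoc]
  have hw1 : lenW P w ≠ 0 := fun h => by
    rw [lenW_eq_one P w h, StW_one d] at hD0
    refine hns (g0 • U) ?_
    ext z
    rw [Sylow.coe_subgroup_smul, Subgroup.mem_pointwise_smul_iff_inv_smul_mem]
    simpa [mul_assoc] using hD0 (g0⁻¹ * z * g0)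
  obtain ⟨J, hJ⟩ : ∃ J : Set P.S, J = {s | lenW P (sw P s * w) = lenW P w + 1} := ⟨_, rfl⟩
  have hJne : J.Nonempty := by
    rw [Set.nonempty_iff_ne_empty]
    intro he
    have hall : ∀ i, lenW P (sw P i * w) + 1 = lenW P w := fun i =>
      (lenW_left P i w).resolve_left fun e => (he ▸ (hJ ▸ e : i ∈ J) : i ∈ (∅ : Set P.S))
    have hww := longest_unique (lenSys P) hall hlong
    refine hne ((Subgroup.eq_bot_iff_forall D).2 fun z hz => ?_)
    have h : g0⁻¹ * z * g0 ∈ StW P U w := (hD0 _).2 (by simpa [mul_assoc] using hz)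
    rw [hww, hbot, Subgroup.mem_bot] at h
    calc z = g0 * (g0⁻¹ * z * g0) * g0⁻¹ := by group
      _ = 1 := by rw [h]; simp
  obtain ⟨i0, hi0⟩ := (lenSys P).descent w hw1
  obtain ⟨_, ⟨j, hj, rfl⟩, k', ⟨hkS, hkJ⟩, hjk⟩ := hirr (Subtype.val '' J) (by rintro _ ⟨a, -, rfl⟩; exact a.2)
    (hJne.image _) ⟨i0, i0.2, by
      rintro ⟨a, ha, he⟩
      rw [Subtype.ext he, hJ] at ha
      simp only [lenSys] at hi0
      exact absurd ha (by show ¬ lenW P _ = _; omega)⟩
  obtain ⟨k, rfl⟩ : ∃ k : P.S, (k : G) = k' := ⟨⟨k', hkS⟩, rfl⟩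
  have hkJ' : k ∉ J := fun h => hkJ ⟨k, h, rfl⟩
  have hjk' : sw P k * sw P j ≠ sw P j * sw P k := by
    intro e
    have h1 : sw P j * sw P k * (sw P j)⁻¹ * (sw P k)⁻¹ = 1 := by rw [← e]; group
    simp only [sw, ← QuotientGroup.mk_mul, ← QuotientGroup.mk_inv] at h1
    rw [QuotientGroup.eq_one_iff, Subgroup.mem_subgroupOf] at h1
    exact hjk h1.1
  have hkd : lenW P (sw P k * w) + 1 = lenW P w :=
    (lenW_left P k w).resolve_left fun e => hkJ' (hJ ▸ e)
  have hwk := StW_le_simple d hkd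
  -- seen from the neighbour
  obtain ⟨g2, hg2⟩ : ∃ g2, g2 = g0 * (k : G) := ⟨_, rfl⟩
  have hg2U : ∀ z ∈ D, g2⁻¹ * z * g2 ∈ (U : Subgroup G) := by
    intro z hz
    have h : g0⁻¹ * z * g0 ∈ StW P U w := (hD0 _).2 (by simpa [mul_assoc] using hz)
    have h2 := mem_U_conj d (mem_St.1 h).1 (mem_St.1 (hwk h)).2
    rwa [hg2, show (g0 * (k : G))⁻¹ * z * (g0 * k) = (k : G)⁻¹ * (g0⁻¹ * z * g0) * k by group]
  obtain ⟨x2, hx2, hx2c⟩ := hat g2 hg2U
  obtain ⟨b2, hb2, w2, hw2, hw2c⟩ := shape d hlong x2 hx2c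
  have hD2 : ∀ y, y ∈ St P U (b2 * wrep P w2) → (k : G) * y * (k : G)⁻¹ ∈ StW P U w := fun y hy => by
    rw [← hw2, hx2, hg2] at hy
    rw [hD0]
    simpa [mul_assoc] using hy
  have hJ2 : ∀ t : P.S, lenW P (sw P t * w2) = lenW P w2 + 1 → t ∈ J ∧ sw P k * sw P t = sw P t * sw P k := by
    intro t ht
    by_contra hcon2
    have hle : St P U (b2 * wrep P w2) ≤ St P U (t : G) := by
      intro y hy
      refine mem_St.2 ⟨(mem_St.1 hy).1, ?_⟩
      have h1 := hD2 y hy
      by_cases htk : t = k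
      · subst htk
        have h2 := d.le_B (mem_St.1 h1).1
        rw [show (t : G)⁻¹ * y * t = ((t : G) * t)⁻¹ * ((t : G) * y * (t : G)⁻¹) * ((t : G) * t) by group]
        exact mul_mem (mul_mem (P.B.inv_mem (P.sq_mem _ t.2)) h2) (P.sq_mem _ t.2)
      · have hinj : Function.Injective (lenSys P).f := fun a a' h => Subtype.ext (P.inj _ a.2 _ a'.2 (by
          have h3 := (mk_eq_iff P _ _).1 h
          exact h3))
        have hred : Red (lenSys P) J (sw P k * sw P t) := red_pair (lenSys P) hkJ'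
          (fun h => htk (hinj h).symm) hinj (not_and_or.1 hcon2)
        rw [hJ] at hred
        have h2 := prefix_of_commute (lenSys P) hwc hred
        simp only [lenSys] at h2
        have h3 := StW_prefix d _ (sw P k * sw P t) ((sw P k * sw P t)⁻¹ * w) rfl
          (by rw [mul_inv_cancel_left]; omega)
        rw [mul_inv_cancel_left] at h3
        have h4 := (mem_St.1 ((h3.trans (by
          rw [sw, sw, ← QuotientGroup.mk_mul, show (⟨(k : G), P.subset k.2⟩ : ↥P.N) * ⟨(t : G), P.subset t.2⟩ =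
            ⟨(k : G) * (t : G), P.N.mul_mem (P.subset k.2) (P.subset t.2)⟩ from rfl, StW_mk])) h1)).2
        rwa [show ((k : G) * t)⁻¹ * ((k : G) * y * (k : G)⁻¹) * ((k : G) * t) = (t : G)⁻¹ * y * t by group] at h4
    refine not_StW_le d ht (P.B.inv_mem hb2) fun z hz => ?_
    refine (d.conj_St (g := b2⁻¹ * (t : G)) hb2).1 ?_
    rw [show b2 * (b2⁻¹ * (t : G)) = t by group]
    exact hle ((d.conj_St hb2).2 hz)
  have hle2 : StW P U w2 ≤ StW P U w := by
    have hred : Red (lenSys P) {t | (lenSys P).len ((lenSys P).f t * w2) = (lenSys P).len w2 + 1} w :=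
      fun t ht => by
        have h := (hJ2 t ht).1
        rw [hJ] at h
        exact h
    have h2 := prefix_of_commute (lenSys P) hw2c hred
    simp only [lenSys] at h2
    have h3 := StW_prefix d _ w (w⁻¹ * w2) rfl (by rw [mul_inv_cancel_left]; omega)
    rwa [mul_inv_cancel_left] at h3
  have hc1 : Nat.card (StW P U w2) = Nat.card D := by
    rw [StW, ← d.card_St_cell (g := b2 * wrep P w2) (n := wrep P w2)
      ((mem_cell P).2 ⟨b2, hb2, 1, P.B.one_mem, by rw [mul_one]⟩), ← hw2]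
    exact Nat.card_congr ((MulAut.conj g2).toEquiv.subtypeEquiv fun y => by
      rw [hx2]; exact Iff.rfl)
  have hc2 : Nat.card (StW P U w) = Nat.card D :=
    Nat.card_congr ((MulAut.conj g0).toEquiv.subtypeEquiv fun y => (hD0 y))
  have heq : StW P U w2 = StW P U w := Subgroup.eq_of_le_of_card_ge hle2 (hc2.trans hc1.symm).le
  have hjd : lenW P (sw P j * w2) + 1 = lenW P w2 :=
    (lenW_left P j w2).resolve_left fun e => hjk' (hJ2 j e).2
  rw [hJ] at hj
  exact not_StW_le d hj P.B.one_mem (by rw [one_mul, ← heq]; exact StW_le_simple d hjd)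

end CfsgLib.Block.DefectLie
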