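import Cfsg.Agent.Lib.Block.DefectLie.Polar
import Cfsg.Agent.Lib.Block.DefiningChar.SL
import Cfsg.Agent.Lib.Lie.CentralAut.ClassicalInst
import Cfsg.Agent.Lib.Orth.Omega
import Cfsg.Agent.Lib.CharTwoInvol.Omega

/-!
# The criterion for linear, symplectic, unitary and orthogonal groups
-/

set_option autoImplicit false
set_option linter.unusedSectionVars false

namespace CfsgLib.Block.DefectLie

open Module Matrix Cfsg CfsgLib.Char.PolarSteinberg CfsgLib.Lie.CentralAut CfsgLib.Classical CfsgLib.SU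

theorem psl {F : Type*} [Field F] [Fintype F] {n : ℕ} (hn : 2 ≤ n) (p : ℕ) [Fact p.Prime] [CharP F p] :
    Crit p (Matrix.ProjectiveSpecialLinearGroup (Fin n) F) := by
  haveI : Finite (Matrix.SpecialLinearGroup (Fin n) F) := inferInstance
  have h : Crit p (Matrix.SpecialLinearGroup (Fin n) F) :=
    crit_of_radicalCentral (DefiningChar.SL.radicalCentral hn)
  refine h.quotient (QuotientGroup.mk' _) (QuotientGroup.mk'_surjective _) (QuotientGroup.ker_mk' _).le
    fun z hz k hk => ?_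
  rw [QuotientGroup.ker_mk', Matrix.SpecialLinearGroup.mem_center_iff] at hz
  obtain ⟨r, -, hr⟩ := hz
  have hr1 : r = 1 := by
    have h1 := congrArg (fun A : Matrix.SpecialLinearGroup (Fin n) F => (A : Matrix (Fin n) (Fin n) F)) hk
    simp only [Matrix.SpecialLinearGroup.coe_pow, Matrix.SpecialLinearGroup.coe_one, ← hr, ← map_pow] at h1
    have h2 := congrArg (fun A : Matrix (Fin n) (Fin n) F => A ⟨0, by omega⟩ ⟨0, by omega⟩) h1
    simp only [Matrix.scalar_apply, Matrix.diagonal_apply_eq, Matrix.one_apply_eq] at h2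
    rw [← one_pow (p ^ k), ← iterateFrobenius_def, ← iterateFrobenius_def] at h2
    exact (iterateFrobenius F p k).injective h2
  exact Subtype.ext (by rw [← hr, hr1, map_one]; rfl)

theorem psp {F : Type*} [Field F] [Fintype F] {m : ℕ} (hm : 2 ≤ m) (p : ℕ) [Fact p.Prime] [CharP F p] :
    Crit p (Cfsg.PSp m F) := by
  haveI : Finite (Matrix.symplecticGroup (Fin m) F) := Subtype.finite
  have hn : finrank F (Fin m ⊕ Fin m → F) = m + m := by
    rw [finrank_fintype_fun_eq_card, Fintype.card_sum, Fintype.card_fin]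
  have hfr := (Symp.isFrame_std (m := m) (F := F))
  refine crit_polar_quotient rich_sp (by omega) (fun _ w _ _ => ⟨CfsgLib.Sp.tv w 1, -1, neg_ne_zero.2 one_ne_zero, fun v => ?_⟩)
    (hfr.sing_e ⟨0, by omega⟩) (hfr.sing_f ⟨0, by omega⟩)
    (by rw [hfr.br_ef, if_pos rfl]) p (movesSing_of_isotropic rich_sp p fun v _ => trivial)
    (QuotientGroup.mk' _) (QuotientGroup.mk'_surjective _) (QuotientGroup.ker_mk' _).le
  show (CfsgLib.Sp.tv w (1 : F)).1 *ᵥ v = _
  rw [CfsgLib.Sp.tv_mulVec, CfsgLib.Sp.sf_swap v w]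
  show v + (1 * -CfsgLib.Sp.sf w v) • w = v + (-1 * CfsgLib.Sp.sf w v) • w
  rw [one_mul, neg_one_mul]

theorem psu {F : Type*} [Field F] [Fintype F] {q n : ℕ} (C : UCtx F q) (hn : 3 ≤ n)
    (hF : Fintype.card F = q ^ 2) (p : ℕ) [Fact p.Prime] [CharP F p] : Crit p (Cfsg.PSU n F q) := by
  obtain ⟨e, f, hef⟩ := Unitary.exists_frame C (n := n) hF
  have hd : finrank F (Fin n → F) = n := Module.finrank_fin_fun F
  obtain ⟨y, hy⟩ := C.exists_not_fixed
  refine crit_polar_quotient (rich_su C hF) (by omega) (fun _ w hw _ => ?_)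
    (hef.sing_e ⟨0, by omega⟩) (hef.sing_f ⟨0, by omega⟩) (by rw [hef.br_ef, if_pos rfl]) p
    (movesSing_of_isotropic (rich_su C hF) p fun v h => h)
    (QuotientGroup.mk' _) (QuotientGroup.mk'_surjective _) (QuotientGroup.ker_mk' _).le
  have ht : y - C.bar y + C.bar (y - C.bar y) = 0 := by rw [map_sub, C.bar_bar]; ring
  have hw' : C.form w w = 0 := hw
  refine ⟨C.tv w hw' (y - C.bar y) ht, y - C.bar y, sub_ne_zero.2 (Ne.symm hy), fun v => ?_⟩
  show (C.tv w hw' (y - C.bar y) ht).1.1 *ᵥ v = _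
  rw [C.tv_mulVec]
  rfl

theorem pomega {F : Type*} [Field F] [Fintype F] {ι : Type} [Fintype ι] [DecidableEq ι]
    (Q : QuadraticForm F (ι → F)) (hQ : (QuadraticMap.polarBilin Q).Nondegenerate) (hn : 5 ≤ Fintype.card ι)
    {r : ℕ} {e f : Fin r → ι → F} (hef : (Orthog.pol Q hQ).IsFrame e f) (hr : 0 < r) (p : ℕ) [Fact p.Prime]
    [CharP F p] : Crit p (Cfsg.POmega F ⇑Q) := by
  have hd : finrank F (ι → F) = Fintype.card ι := finrank_fintype_fun_eq_card F
  have hR := rich_omega Q hQ hn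
  refine crit_polar_quotient hR (by omega) (fun h => by omega)
    (hef.sing_e ⟨0, hr⟩) (hef.sing_f ⟨0, hr⟩) (by rw [hef.br_ef, if_pos rfl]) p ?_
    (QuotientGroup.mk' _) (QuotientGroup.mk'_surjective _) (QuotientGroup.ker_mk' _).le
  by_cases h2 : (2 : F) ≠ 0
  · refine movesSing_of_isotropic hR p fun v hv => ?_
    change QuadraticMap.polarBilin Q v v = 0 at hv
    rw [QuadraticMap.polarBilin_apply_apply, polar_self_two] at hv
    exact (mul_eq_zero.1 hv).resolve_left h2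
  rw [not_not] at h2
  have hp : p = 2 := (Nat.prime_dvd_prime_iff_eq Fact.out Nat.prime_two).1
    ((CharP.cast_eq_zero_iff F p 2).1 (by exact_mod_cast h2))
  subst hp
  intro z hz1 hzp
  obtain ⟨act, hact⟩ : ∃ act, act = (Orthog.isom Q hQ).act.comp (Cfsg.Omega F ⇑Q).subtype := ⟨_, rfl⟩
  rw [← hact] at hR ⊢
  have happ : ∀ v, act z v = z.1.1.1 *ᵥ v := fun v => by rw [hact]; rfl
  have hwrk : Even (CfsgLib.Orth.wrk z.1.1) :=
    ((CfsgLib.Orth.mem_omega_iff (CfsgLib.Orth.nd_of_qf Q hQ) (by omega) (Or.inr (by omega)) z.1).1 z.2).2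
  have hdisp : ∀ v, CfsgLib.Orth.disp z.1.1 v = act z v - v := fun v => by
    rw [CfsgLib.Orth.disp_apply, happ, ← neg_sub]
    exact funext fun i => CharTwo.neg_eq _
  have hfix : ∀ v, act z (act z v - v) = act z v - v := fun v => by
    have h : act z (act z v) = v := by rw [← LinearEquiv.mul_apply, ← map_mul, ← pow_two, hzp, map_one]; rfl
    rw [map_sub, h, ← neg_sub]
    exact funext fun i => CharTwo.neg_eq _
  obtain ⟨v0, u0, hv0, -, hu0⟩ := exists_fixed_moved hR 2 hz1 hzp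
  have hpos : 0 < CfsgLib.Orth.wrk z.1.1 := by
    rw [CfsgLib.Orth.wrk, Module.finrank_pos_iff_exists_ne_zero]
    exact ⟨⟨v0, u0, by rw [hdisp, hu0]⟩, fun h => hv0 (congrArg Subtype.val h)⟩
  have h2le : 2 ≤ finrank F (CfsgLib.Orth.moved z.1.1) := by
    obtain ⟨j, hj⟩ := hwrk
    have e : CfsgLib.Orth.wrk z.1.1 = finrank F (CfsgLib.Orth.moved z.1.1) := rfl
    omega
  obtain ⟨w, ⟨u1, rfl⟩, hwn⟩ := exists_not_mem_span h2le v0
  obtain ⟨c, d, hcd, hsum⟩ : ∃ c d : F, (c ≠ 0 ∨ d ≠ 0) ∧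
      c * c * Q v0 + d * d * Q (CfsgLib.Orth.disp z.1.1 u1) = 0 := by
    rcases eq_or_ne (Q v0) 0 with h | h
    · exact ⟨1, 0, Or.inl one_ne_zero, by rw [h]; ring⟩
    · obtain ⟨c, hc⟩ := FiniteField.isSquare_of_char_two (ringChar.eq F 2)
        (Q (CfsgLib.Orth.disp z.1.1 u1) / Q v0)
      refine ⟨c, 1, Or.inr one_ne_zero, ?_⟩
      rw [← hc, div_mul_cancel₀ _ h, one_mul, one_mul, ← two_mul, h2, zero_mul]
  refine ⟨c • v0 + d • CfsgLib.Orth.disp z.1.1 u1, c • u0 + d • u1, ?_, ?_, ?_, ?_⟩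
  · intro h
    rcases hcd with hc | hd'
    · rcases eq_or_ne d 0 with rfl | hd'
      · rw [zero_smul, add_zero, smul_eq_zero] at h
        exact h.elim hc hv0
      · refine hwn (-(d⁻¹ * c)) ?_
        rw [neg_smul, mul_smul, eq_neg_of_add_eq_zero_left h, smul_neg, neg_neg, inv_smul_smul₀ hd']
    · refine hwn (-(d⁻¹ * c)) ?_
      rw [neg_smul, mul_smul, eq_neg_of_add_eq_zero_left h, smul_neg, neg_neg, inv_smul_smul₀ hd']
  · show Q _ = 0
    have hb : QuadraticMap.polar ⇑Q v0 (CfsgLib.Orth.disp z.1.1 u1) = 0 := by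
      have h3 : act z v0 = v0 := by rw [← hu0]; exact hfix u0
      have h4 := hR.br_act z v0 u1
      rw [hdisp, sub_eq_add_neg, QuadraticMap.polar_add_right, QuadraticMap.polar_neg_right]
      rw [h3] at h4
      change QuadraticMap.polar ⇑Q v0 (act z u1) = QuadraticMap.polar ⇑Q v0 u1 at h4
      rw [h4, add_neg_cancel]
    rw [map_add_polar, QuadraticMap.map_smul, QuadraticMap.map_smul, QuadraticMap.polar_smul_left,
      QuadraticMap.polar_smul_right, hb, smul_eq_mul, smul_eq_mul, smul_zero, smul_zero, add_zero]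
    exact hsum
  · rw [map_add, map_smul, map_smul, hdisp, hfix, ← hu0, hfix]
  · rw [map_add, map_smul, map_smul, hdisp, ← hu0, smul_sub, smul_sub]
    abel

end CfsgLib.Block.DefectLie
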