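import Cfsg.Agent.Lib.Lie.Iwahori.Family
import Mathlib.Algebra.BigOperators.Group.List.Basic
import Mathlib.Data.Fintype.Basic

/-!
# Elementary facts on length systems: exchange, parabolic words, longest element
-/

set_option autoImplicit false

namespace CfsgLib.Block.DefectLie

open CfsgLib.Lie.Iwahori

variable {W : Type*} [Group W] {ι : Type*} (E : LenSys W ι)

/-- the product of a word -/
def wd (l : List ι) : W := (l.map E.f).prod

theorem wd_append (l l' : List ι) : wd E (l ++ l') = wd E l * wd E l' := by simp [wd]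

theorem wd_cons (i : ι) (l : List ι) : wd E (i :: l) = E.f i * wd E l := by simp [wd]

theorem len_wd_le : ∀ l : List ι, E.len (wd E l) ≤ l.length
  | [] => by simp [wd, E.len_one]
  | i :: l => by
    have h := len_wd_le l
    rw [wd_cons, List.length_cons]
    rcases E.left_cases i (wd E l) with e | e <;> omega

theorem exists_word : ∀ (k : ℕ) (w : W), E.len w = k → ∃ l : List ι, wd E l = w ∧ l.length = k := by
  intro k
  induction k with
  | zero => exact fun w h => ⟨[], by simp [wd, E.eq_one w h], rfl⟩
  | succ k ih =>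
    intro w h
    obtain ⟨i, hi⟩ := E.descent w (by omega)
    obtain ⟨l, hl, hlen⟩ := ih (E.f i * w) (by omega)
    exact ⟨i :: l, by rw [wd_cons, hl, E.f_f], by simp [hlen]⟩

theorem len_mul_le (u v : W) : E.len (u * v) ≤ E.len u + E.len v := by
  obtain ⟨a, ha, hal⟩ := exists_word E _ u rfl
  obtain ⟨b, hb, hbl⟩ := exists_word E _ v rfl
  have h := len_wd_le E (a ++ b)
  rw [wd_append, ha, hb, List.length_append] at h
  omega

theorem f_injective_of_len {i : ι} : E.f i ≠ 1 := fun h => by
  have := E.len_f i
  rw [h, E.len_one] at this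
  omega

/-- the exchange condition -/
theorem exchange (i : ι) : ∀ l : List ι, E.len (wd E l) = l.length → E.len (E.f i * wd E l) + 1 = l.length →
    ∃ k < l.length, E.f i * wd E l = wd E (l.eraseIdx k) := by
  intro l
  induction l using List.reverseRecOn with
  | nil => intro _ h; simp at h
  | append_singleton l j ih =>
    intro hl hlt
    rw [List.length_append, List.length_singleton] at hl hlt
    have hj : wd E (l ++ [j]) = wd E l * E.f j := by simp [wd]
    rw [hj] at hl hlt
    have hl' : E.len (wd E l) = l.length := by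
      have := len_wd_le E l
      rcases E.right_cases j (wd E l) with e | e <;> omega
    rcases E.left_cases i (wd E l) with e | e
    · refine ⟨l.length, by simp, ?_⟩
      rw [List.eraseIdx_append_of_length_le le_rfl]
      simp only [Nat.sub_self, List.eraseIdx_cons_zero, List.append_nil]
      have hk := E.key i j (wd E l) (by rw [mul_assoc]; omega) (by omega)
      rw [hj, ← mul_assoc, hk, E.ff_right]
    · obtain ⟨k, hk, he⟩ := ih hl' (by omega)
      refine ⟨k, by simp; omega, ?_⟩
      rw [hj, List.eraseIdx_append_of_lt_length hk, wd_append, ← mul_assoc, he]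
      simp [wd]

/-- a reduced product shortened on the left is shortened in one of the factors -/
theorem exchange_mul {i : ι} {u v : W} (h : E.len (u * v) = E.len u + E.len v)
    (hu : E.len (E.f i * u) = E.len u + 1) (hd : E.len (E.f i * (u * v)) + 1 = E.len (u * v)) :
    E.len (u⁻¹ * E.f i * u * v) + 1 = E.len v := by
  obtain ⟨a, rfl, ha⟩ := exists_word E _ u rfl
  obtain ⟨b, rfl, hb⟩ := exists_word E _ v rfl
  rw [← wd_append] at hd h
  obtain ⟨k, hk, he⟩ := exchange E i (a ++ b) (by rw [h, List.length_append, ha, hb])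
    (by rw [hd, h, List.length_append, ha, hb])
  rw [wd_append, ← mul_assoc] at he
  by_cases hka : k < a.length
  · exfalso
    rw [List.eraseIdx_append_of_lt_length hka, wd_append, mul_left_inj] at he
    have := len_wd_le E (a.eraseIdx k)
    rw [← he, List.length_eraseIdx, if_pos hka] at this
    omega
  · rw [List.eraseIdx_append_of_length_le (not_lt.1 hka), wd_append] at he
    have e : (wd E a)⁻¹ * E.f i * wd E a * wd E b = wd E (b.eraseIdx (k - a.length)) := by
      calc (wd E a)⁻¹ * E.f i * wd E a * wd E b = (wd E a)⁻¹ * (E.f i * wd E a * wd E b) := by group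
        _ = _ := by rw [he, inv_mul_cancel_left]
    rw [List.length_append] at hk
    have h1 : E.len ((wd E a)⁻¹ * E.f i * wd E a * wd E b) ≤ b.length - 1 := by
      rw [e]
      refine (len_wd_le E _).trans ?_
      rw [List.length_eraseIdx, if_pos (by omega)]
    have h2 : E.len (E.f i * wd E (a ++ b)) ≤
        E.len (wd E a) + E.len ((wd E a)⁻¹ * E.f i * wd E a * wd E b) := by
      refine le_trans ?_ (len_mul_le E _ _)
      rw [wd_append, show wd E a * ((wd E a)⁻¹ * E.f i * wd E a * wd E b) = E.f i * (wd E a * wd E b) by group]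
    omega

/-- an element with all left descents is the longest one -/
theorem len_longest {w0 : W} (h0 : ∀ i, E.len (E.f i * w0) + 1 = E.len w0) :
    ∀ (k : ℕ) (u : W), E.len u = k → E.len (u⁻¹ * w0) + k = E.len w0 := by
  intro k
  induction k with
  | zero => intro u hu; rw [E.eq_one u hu, inv_one, one_mul, add_zero]
  | succ k ih =>
    intro u hu
    obtain ⟨i, hi⟩ := E.descent u (by omega)
    obtain ⟨u', rfl⟩ : ∃ u', u = E.f i * u' := ⟨E.f i * u, (E.f_f i u).symm⟩
    rw [E.f_f] at hi
    have h1 := ih u' (by omega)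
    have h2 := exchange_mul E (i := i) (u := u') (v := u'⁻¹ * w0)
      (by rw [mul_inv_cancel_left]; omega) (by omega) (by rw [mul_inv_cancel_left]; exact h0 i)
    rw [_root_.mul_inv_rev, E.inv_f]
    rw [show u'⁻¹ * E.f i * u' * (u'⁻¹ * w0) = u'⁻¹ * E.f i * w0 by group] at h2
    omega

theorem longest_unique {w0 w1 : W} (h0 : ∀ i, E.len (E.f i * w0) + 1 = E.len w0)
    (h1 : ∀ i, E.len (E.f i * w1) + 1 = E.len w1) : w0 = w1 := by
  have a := len_longest E h0 _ w1 rfl
  have b := len_longest E h1 _ w0 rfl
  have e := E.eq_one (w1⁻¹ * w0) (by omega)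
  exact (eq_of_inv_mul_eq_one e).symm

/-- no left descent in `J` -/
def Red (J : Set ι) (m : W) : Prop := ∀ j ∈ J, E.len (E.f j * m) = E.len m + 1

theorem exists_parabolic_word {J : Set ι} {z : W} (hz : z ∈ Subgroup.closure (E.f '' J)) :
    ∃ l : List ι, (∀ j ∈ l, j ∈ J) ∧ wd E l = z ∧ E.len z = l.length := by
  have step : ∀ j ∈ J, ∀ y, (∃ l : List ι, (∀ a ∈ l, a ∈ J) ∧ wd E l = y ∧ E.len y = l.length) →
      ∃ l : List ι, (∀ a ∈ l, a ∈ J) ∧ wd E l = E.f j * y ∧ E.len (E.f j * y) = l.length := by
    rintro j hj y ⟨l, hl, rfl, hlen⟩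
    rcases E.left_cases j (wd E l) with e | e
    · exact ⟨j :: l, List.forall_mem_cons.2 ⟨hj, hl⟩, wd_cons E j l, by rw [List.length_cons]; omega⟩
    · obtain ⟨k, hk, he⟩ := exchange E j l hlen (by omega)
      refine ⟨l.eraseIdx k, fun a ha => hl a (List.mem_of_mem_eraseIdx ha), he.symm, ?_⟩
      rw [List.length_eraseIdx, if_pos hk]
      omega
  induction hz using Subgroup.closure_induction_left with
  | one => exact ⟨[], by simp, by simp [wd], by simp [E.len_one]⟩
  | mul_left x hx y _ ih =>
    obtain ⟨j, hj, rfl⟩ := hx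
    exact step j hj y ih
  | inv_mul_cancel x hx y _ ih =>
    obtain ⟨j, hj, rfl⟩ := hx
    rw [E.inv_f]
    exact step j hj y ih

/-- lengths add over a parabolic subgroup and a reduced element -/
theorem len_coset {J : Set ι} {m : W} (hm : Red E J m) :
    ∀ z ∈ Subgroup.closure (E.f '' J), E.len (z * m) = E.len z + E.len m := by
  classical
  have key : ∀ m0 : W, (∀ z ∈ Subgroup.closure (E.f '' J), E.len m0 ≤ E.len (z * m0)) →
      ∀ z ∈ Subgroup.closure (E.f '' J), E.len (z * m0) = E.len z + E.len m0 := by
    intro m0 hmin z hz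
    obtain ⟨l, hl, rfl, hlen⟩ := exists_parabolic_word E hz
    clear hz
    induction l with
    | nil => simp [wd, E.len_one]
    | cons j l ih =>
      have hl' : ∀ a ∈ l, a ∈ J := fun a ha => hl a (List.mem_cons_of_mem _ ha)
      rw [wd_cons, List.length_cons] at hlen
      have hll : E.len (wd E l) = l.length := by
        have := len_wd_le E l
        rcases E.left_cases j (wd E l) with e | e <;> omega
      have h1 := ih hl' hll
      rw [wd_cons, mul_assoc]
      rcases E.left_cases j (wd E l * m0) with e | e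
      · omega
      exfalso
      have h2 := exchange_mul E (i := j) h1 (by omega) e
      have hmem : (wd E l)⁻¹ * E.f j * wd E l ∈ Subgroup.closure (E.f '' J) := by
        have hw : wd E l ∈ Subgroup.closure (E.f '' J) := by
          refine list_prod_mem fun a ha => ?_
          obtain ⟨b, hb, rfl⟩ := List.mem_map.1 ha
          exact Subgroup.subset_closure ⟨b, hl' b hb, rfl⟩
        exact mul_mem (mul_mem (inv_mem hw) (Subgroup.subset_closure ⟨j, hl j List.mem_cons_self, rfl⟩)) hw
      have := hmin _ hmem
      omega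
  have hex : ∃ n, ∃ z ∈ Subgroup.closure (E.f '' J), E.len (z * m) = n := ⟨_, 1, one_mem _, rfl⟩
  obtain ⟨z0, hz0, hn⟩ := Nat.find_spec hex
  have hmin : ∀ z ∈ Subgroup.closure (E.f '' J), E.len (z0 * m) ≤ E.len (z * (z0 * m)) := fun z hz => by
    rw [hn]
    exact Nat.find_min' hex ⟨z * z0, mul_mem hz hz0, by rw [mul_assoc]⟩
  have hz0' : z0 = 1 := by
    by_contra hne
    obtain ⟨l, hl, he, hlen⟩ := exists_parabolic_word E (inv_mem hz0)
    rcases l with _ | ⟨j, l⟩
    · exact hne (inv_eq_one.1 (by rw [← he]; simp [wd]))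
    have a := key _ hmin z0⁻¹ (inv_mem hz0)
    rw [inv_mul_cancel_left] at a
    have hmem : E.f j * z0⁻¹ ∈ Subgroup.closure (E.f '' J) :=
      mul_mem (Subgroup.subset_closure ⟨j, hl j List.mem_cons_self, rfl⟩) (inv_mem hz0)
    have b := key _ hmin _ hmem
    rw [mul_assoc, inv_mul_cancel_left, hm j (hl j List.mem_cons_self)] at b
    have c : E.len (E.f j * z0⁻¹) ≤ l.length := by
      rw [← he, wd_cons, E.f_f]
      exact len_wd_le E l
    rw [List.length_cons] at hlen
    omega
  subst hz0'
  rw [one_mul] at hmin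
  exact key m hmin

/-- if the left ascents of `n` commute with it, every element without descents among them is a prefix -/
theorem prefix_of_commute [Finite W] {n : W}
    (hc : ∀ j, E.len (E.f j * n) = E.len n + 1 → E.f j * n = n * E.f j) {m : W}
    (hm : Red E {j | E.len (E.f j * n) = E.len n + 1} m) : E.len (m⁻¹ * n) + E.len m = E.len n := by
  obtain ⟨J, hJ⟩ : ∃ J : Set ι, J = {j | E.len (E.f j * n) = E.len n + 1} := ⟨_, rfl⟩
  rw [← hJ] at hm
  have hn : Red E J n := fun j hj => by rw [hJ] at hj; exact hj
  obtain ⟨⟨z, hz⟩, hmax⟩ := Finite.exists_max fun z : ↥(Subgroup.closure (E.f '' J)) => E.len (z : W)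
  have hcomm : ∀ y ∈ Subgroup.closure (E.f '' J), y * n = n * y := by
    intro y hy
    induction hy using Subgroup.closure_induction with
    | mem x hx => obtain ⟨j, hj, rfl⟩ := hx; exact hc j (by rw [hJ] at hj; exact hj)
    | one => simp
    | mul a b _ _ ha hb => rw [mul_assoc, hb, ← mul_assoc, ha, mul_assoc]
    | inv a _ ha => exact eq_mul_inv_iff_mul_eq.2 (by rw [mul_assoc, ← ha, inv_mul_cancel_left])
  have hlong : ∀ i, E.len (E.f i * (z * n)) + 1 = E.len (z * n) := by
    intro i
    rw [len_coset E hn z hz]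
    by_cases hi : i ∈ J
    · have hmem : E.f i * z ∈ Subgroup.closure (E.f '' J) := mul_mem (Subgroup.subset_closure ⟨i, hi, rfl⟩) hz
      have := hmax ⟨_, hmem⟩
      rw [← mul_assoc, len_coset E hn _ hmem]
      rcases E.left_cases i z with e | e
      · simp only at this; omega
      · omega
    · rw [hJ, Set.mem_ofPred_eq] at hi
      have hd : E.len (E.f i * n) + 1 = E.len n := by rcases E.left_cases i n with e | e <;> omega
      have h1 := len_mul_le E (E.f i * n) z
      rw [mul_assoc, ← hcomm z hz] at h1
      have h2 := len_coset E hn z hz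
      rcases E.left_cases i (z * n) with e | e <;> omega
  have a := len_longest E hlong _ (z * m) rfl
  rw [len_coset E hn z hz, len_coset E hm z hz, _root_.mul_inv_rev,
    show m⁻¹ * z⁻¹ * (z * n) = m⁻¹ * n by group] at a
  omega

/-- a product of two distinct simple elements has one left descent unless they commute -/
theorem red_pair {J : Set ι} {k t : ι} (hk : k ∉ J) (hkt : E.f k ≠ E.f t) (hinj : Function.Injective E.f)
    (h : t ∉ J ∨ E.f k * E.f t ≠ E.f t * E.f k) : Red E J (E.f k * E.f t) := by
  intro j hj
  have h2 : E.len (E.f k * E.f t) = 2 := by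
    rcases E.left_cases k (E.f t) with e | e
    · rw [e, E.len_f]
    · rw [E.len_f] at e
      exact absurd (eq_inv_of_mul_eq_one_left (E.eq_one (E.f k * E.f t) (by omega))) (by rw [E.inv_f]; exact hkt)
  rcases E.left_cases j (E.f k * E.f t) with e | e
  · exact e
  exfalso
  have hw : wd E [k, t] = E.f k * E.f t := by simp [wd]
  obtain ⟨i, hi, he⟩ := exchange E j [k, t] (by rw [hw, h2]; rfl) (by rw [hw]; simp only [List.length_cons, List.length_nil]; omega)
  rw [hw] at he
  have hi' : i = 0 ∨ i = 1 := by simp at hi; omega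
  rcases hi' with rfl | rfl
  · simp only [List.eraseIdx_cons_zero, wd, List.map_cons, List.map_nil, List.prod_cons, List.prod_nil,
      mul_one, ← mul_assoc, mul_eq_right] at he
    exact hk ((hinj ((eq_inv_of_mul_eq_one_left he).trans (E.inv_f k))) ▸ hj)
  · simp only [List.eraseIdx_cons_succ, List.eraseIdx_cons_zero, wd, List.map_cons, List.map_nil,
      List.prod_cons, List.prod_nil, mul_one] at he
    -- `f j f k f t = f k`
    have e1 : E.f k * E.f t = E.f j * E.f k := by
      calc E.f k * E.f t = E.f j * (E.f j * (E.f k * E.f t)) := (E.f_f _ _).symm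
        _ = E.f j * E.f k := by rw [he]
    have hcom : E.f k * E.f t = E.f t * E.f k := by
      refine E.key k k (E.f t) ?_ ?_
      · rw [e1, E.ff_right, E.len_f, E.len_f]
      · rw [← E.len_inv (E.f t * E.f k), _root_.mul_inv_rev, E.inv_f, E.inv_f]
    rw [hcom] at e1
    have hjt : t = j := hinj (mul_right_cancel e1)
    exact h.elim (fun ht => ht (hjt ▸ hj)) fun hne => hne hcom

end CfsgLib.Block.DefectLie
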