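import Cfsg.Agent.Lib.Block.DefectLie.Crit
import Cfsg.Agent.Lib.Lie.SylowOver.Polar
import Mathlib.GroupTheory.PGroup

/-!
# The criterion for groups of isometries with enough unipotent elements

A non-trivial `p`-subgroup `D` has a central element of order `p`; the span of its singular fixed moved
vectors is totally singular and invariant under `D` and its centralizer, and an element centralizing
the elements trivial on the sections of this space is a scalar up to a unipotent part.
-/

set_option autoImplicit false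
set_option linter.unusedSectionVars false

namespace CfsgLib.Block.DefectLie

open Module CfsgLib.Char.PolarSteinberg CfsgLib.Lie.CentralAut CfsgLib.Lie.SylowOver

universe u v w

variable {F : Type u} {V : Type v} [Field F] [AddCommGroup V] [Module F V] [FiniteDimensional F V]
variable {P : Pol F V} {X : Type w} [Group X] [Finite X] {act : X →* (V ≃ₗ[F] V)} {ε : F}

theorem exists_br_ne {W : Submodule F V} {a : V} (ha : a ∉ W) : ∃ v ∈ P.perp W, P.br a v ≠ 0 := by
  by_contra hcon
  push Not at hcon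
  refine ha ?_
  rw [← P.perp_perp W]
  exact (P.mem_perp).2 fun v hv => P.refl _ _ (hcon v hv)

theorem exists_br_one {w : V} (hw : w ≠ 0) : ∃ v, P.br w v = 1 := by
  obtain ⟨v, hv⟩ : ∃ v, P.br w v ≠ 0 := by
    by_contra hcon
    push Not at hcon
    exact hw (P.nondeg w hcon)
  exact ⟨(P.br w v)⁻¹ • v, by rw [map_smul, smul_eq_mul, inv_mul_cancel₀ hv]⟩

theorem eich_mem_radGp (hR : Rich P act ε) {W : Submodule F V} (hTS : P.IsTS W) {w a : V} (hw : w ∈ W)
    (ha : a ∈ P.perp W) {g : X} (hg : ∀ v, ∃ c : F, act g v = v + P.br w v • a + c • w)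
    (hg' : ∀ v, P.br w v = 0 → act g v = v + (ε * P.br a v) • w) : g ∈ radGp P act W := by
  refine mem_radGp.2 ⟨fun u hu => ?_, fun v hv => ?_, fun v => ?_⟩
  · rw [hg' u (hTS.le_perp hu w hw), P.refl u a (ha u hu), mul_zero, zero_smul, add_zero]
  · rw [hg' v (hv w hw), add_sub_cancel_left]
    exact W.smul_mem _ hw
  · obtain ⟨c, hc⟩ := hg v
    rw [hc, add_assoc, add_sub_cancel_left]
    exact (P.perp W).add_mem ((P.perp W).smul_mem _ ha) ((P.perp W).smul_mem _ (hTS.le_perp hw))

/-- commuting with an Eichler element -/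
theorem eich_rel {w a : V} {g x : X} (hc : Commute g x) (v : V)
    (hg : ∀ v, ∃ c : F, act g v = v + P.br w v • a + c • w) :
    ∃ c : F, act x (act g v - v) = P.br w (act x v) • a + c • w := by
  obtain ⟨c, hc'⟩ := hg (act x v)
  refine ⟨c, ?_⟩
  rw [map_sub, ← LinearEquiv.mul_apply, ← map_mul, ← hc.eq, map_mul, LinearEquiv.mul_apply, hc']
  abel

/-- the hypothesis covering a Lagrangian plane in dimension four -/
def HasTv (P : Pol F V) (act : X →* (V ≃ₗ[F] V)) : Prop :=
  finrank F V = 4 → ∀ w : V, P.sing w → w ≠ 0 → ∃ (g : X) (κ : F), κ ≠ 0 ∧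
    ∀ v, act g v = v + (κ * P.br w v) • w

theorem eigen_of_commute (hR : Rich P act ε) (hn : 3 ≤ finrank F V) (htv : HasTv P act) {W : Submodule F V}
    (hTS : P.IsTS W) {x : X} (hxW : ∀ w ∈ W, act x w ∈ W) (hc : ∀ r ∈ radGp P act W, Commute r x)
    {w : V} (hw : w ∈ W) (hw0 : w ≠ 0) : ∃ c : F, act x w = c • w := by
  have main : ∀ a ∈ P.perp W, ∀ v, P.br w v = 0 → P.br a v ≠ 0 → P.br w (act x v) • a ∈ Submodule.span F {w} →
      ∃ c : F, act x w = c • w := by
    intro a ha v hv hav hco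
    obtain ⟨g, hg, hg'⟩ := hR.eich w a hw0 (hTS.sing w hw) (ha w hw)
    obtain ⟨c, hcc⟩ := eich_rel (hc g (eich_mem_radGp hR hTS hw ha hg hg')) v hg
    rw [hg' v hv, add_sub_cancel_left, map_smul] at hcc
    obtain ⟨d, hd⟩ := Submodule.mem_span_singleton.1 hco
    refine ⟨(ε * P.br a v)⁻¹ * (d + c), ?_⟩
    rw [mul_smul, add_smul, hd, ← hcc, inv_smul_smul₀ (mul_ne_zero hR.eps_ne hav)]
  by_cases hlag : P.perp W ≤ W
  · have heq : P.perp W = W := le_antisymm hlag hTS.le_perp
    have hfr := P.finrank_perp W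
    rw [heq] at hfr
    by_cases h4 : finrank F V = 4
    · obtain ⟨g, κ, hκ, hg⟩ := htv h4 w (hTS.sing w hw) hw0
      have hgR : g ∈ radGp P act W := by
        refine mem_radGp.2 ⟨fun u hu => ?_, fun v hv => ?_, fun v => ?_⟩
        · rw [hg, hTS.le_perp hu w hw, mul_zero, zero_smul, add_zero]
        · rw [hg, add_sub_cancel_left]; exact W.smul_mem _ hw
        · rw [hg, add_sub_cancel_left]; exact (P.perp W).smul_mem _ (hTS.le_perp hw)
      obtain ⟨v, hv⟩ := exists_br_one (P := P) hw0
      have h : act x (act g v - v) = act g (act x v) - act x v := by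
        rw [map_sub, ← LinearEquiv.mul_apply, ← map_mul, ← (hc g hgR).eq, map_mul, LinearEquiv.mul_apply]
      rw [hg, hg, add_sub_cancel_left, add_sub_cancel_left, map_smul, hv, mul_one] at h
      exact ⟨κ⁻¹ * (κ * P.br w (act x v)), by rw [mul_smul, ← h, inv_smul_smul₀ hκ]⟩
    · classical
      obtain ⟨u, hu⟩ : ∃ u, act x u = w := ⟨(act x).symm w, (act x).apply_symm_apply w⟩
      obtain ⟨L, hL⟩ : ∃ L : Submodule F V, L = Submodule.span F {w, u} := ⟨_, rfl⟩
      have hL2 : finrank F L ≤ 2 := by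
        rw [hL]
        have h := finrank_span_finset_le_card (R := F) ({w, u} : Finset V)
        rw [Finset.coe_insert, Finset.coe_singleton] at h
        exact h.trans Finset.card_le_two
      obtain ⟨a, ha, haL⟩ : ∃ a ∈ W, a ∉ L := by
        by_contra hcon
        push Not at hcon
        have := Submodule.finrank_mono (show W ≤ L from hcon)
        omega
      obtain ⟨v, hv, hav⟩ := exists_br_ne (P := P) haL
      have hwv : P.br w v = 0 := hv w (hL ▸ Submodule.subset_span (by simp))
      refine main a (heq.ge ha) v hwv hav ?_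
      rw [← hu, hR.br_act, hv u (hL ▸ Submodule.subset_span (by simp)), zero_smul]
      exact Submodule.zero_mem _
  · obtain ⟨a, ha, haW⟩ := SetLike.not_le_iff_exists.1 hlag
    obtain ⟨v, hv, hav⟩ := exists_br_ne (P := P) haW
    obtain ⟨g, hg, hg'⟩ := hR.eich w a hw0 (hTS.sing w hw) (ha w hw)
    obtain ⟨c, hcc⟩ := eich_rel (hc g (eich_mem_radGp hR hTS hw ha hg hg')) v hg
    rw [hg' v (hv w hw), add_sub_cancel_left, map_smul] at hcc
    refine main a ha v (hv w hw) hav ?_
    have h1 : P.br w (act x v) • a ∈ W := by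
      rw [show P.br w (act x v) • a = (ε * P.br a v) • act x w - c • w by rw [hcc, add_sub_cancel_right]]
      exact W.sub_mem (W.smul_mem _ (hxW w hw)) (W.smul_mem _ hw)
    rcases eq_or_ne (P.br w (act x v)) 0 with h0 | h0
    · rw [h0, zero_smul]; exact Submodule.zero_mem _
    · exact absurd (by simpa [h0] using W.smul_mem (P.br w (act x v))⁻¹ h1) haW

/-- an element commuting with the elements trivial on the sections of a totally singular space is
a scalar on the sections -/
theorem sections_of_commute (hR : Rich P act ε) (hn : 3 ≤ finrank F V) (htv : HasTv P act) {W : Submodule F V}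
    (hTS : P.IsTS W) (hne : W ≠ ⊥) {x : X} (hxW : ∀ w ∈ W, act x w ∈ W)
    (hc : ∀ r ∈ radGp P act W, Commute r x) :
    ∃ l : F, (∀ w ∈ W, act x w = l • w) ∧ (∀ a ∈ P.perp W, act x a - l • a ∈ W) ∧
      ∀ v, act x v - l • v ∈ P.perp W := by
  obtain ⟨w0, hw0, hw00⟩ := Submodule.exists_mem_ne_zero_of_ne_bot hne
  obtain ⟨l, hl⟩ := eigen_of_commute hR hn htv hTS hxW hc hw0 hw00
  have hlW : ∀ w ∈ W, act x w = l • w := by
    intro w hw
    by_cases hd : w ∈ Submodule.span F {w0}
    · obtain ⟨e, rfl⟩ := Submodule.mem_span_singleton.1 hd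
      rw [map_smul, hl, smul_comm]
    have hw1 : w ≠ 0 := fun h => hd (h ▸ Submodule.zero_mem _)
    have hw2 : w0 + w ≠ 0 := fun h => hd (Submodule.mem_span_singleton.2 ⟨-1, by
      rw [neg_smul, one_smul]; exact neg_eq_of_add_eq_zero_right h⟩)
    obtain ⟨l1, hl1⟩ := eigen_of_commute hR hn htv hTS hxW hc hw hw1
    obtain ⟨l2, hl2⟩ := eigen_of_commute hR hn htv hTS hxW hc (W.add_mem hw0 hw) hw2
    rw [map_add, hl, hl1] at hl2
    have h3 : (l - l2) • w0 + (l1 - l2) • w = 0 := by rw [sub_smul, sub_smul, add_sub, sub_add_eq_add_sub, hl2, smul_add]; abel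
    have h4 : l1 = l2 := by
      by_contra h
      refine hd (Submodule.mem_span_singleton.2 ⟨-(l1 - l2)⁻¹ * (l - l2), ?_⟩)
      rw [mul_smul, eq_neg_of_add_eq_zero_left h3, smul_neg, neg_smul, neg_neg,
        inv_smul_smul₀ (sub_ne_zero.2 h)]
    subst h4
    rw [sub_self, zero_smul, add_zero, smul_eq_zero, sub_eq_zero] at h3
    rw [hl1, h3.resolve_right hw00]
  -- the middle section
  obtain ⟨v0, hv0⟩ := exists_br_one (P := P) hw00
  obtain ⟨m, hm⟩ : ∃ m, m = P.br w0 (act x v0) := ⟨_, rfl⟩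
  have hmid : ∀ a ∈ P.perp W, ∃ d : F, act x a = m • a + d • w0 := by
    intro a ha
    obtain ⟨g, hg, hg'⟩ := hR.eich w0 a hw00 (hTS.sing w0 hw0) (ha w0 hw0)
    obtain ⟨c, hcc⟩ := eich_rel (hc g (eich_mem_radGp hR hTS hw0 ha hg hg')) v0 hg
    obtain ⟨c', hc'⟩ := hg v0
    rw [hc', add_assoc, add_sub_cancel_left, map_add, map_smul, map_smul, hv0, one_smul, hlW w0 hw0, ← hm] at hcc
    refine ⟨c - c' * l, ?_⟩
    rw [sub_smul, mul_smul, ← add_sub_assoc, ← hcc, add_sub_cancel_right]
  have hτl : P.τ l * m = 1 := by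
    rw [← hv0, hm, ← hR.br_act x w0 v0, hlW w0 hw0, P.br_smul]
  have hlm : l = m := by
    by_cases hlag : P.perp W ≤ W
    · have heq : P.perp W = W := le_antisymm hlag hTS.le_perp
      have hfr := P.finrank_perp W
      rw [heq] at hfr
      obtain ⟨a, ha, han⟩ := exists_not_mem_span (show 2 ≤ finrank F W by omega) w0
      obtain ⟨d, hd⟩ := hmid a (heq.ge ha)
      rw [hlW a ha] at hd
      by_contra hne'
      refine han ((l - m)⁻¹ * d) ?_
      rw [mul_smul, show d • w0 = (l - m) • a by rw [sub_smul, hd, add_sub_cancel_left],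
        inv_smul_smul₀ (sub_ne_zero.2 hne')]
    · obtain ⟨a, ha, haW⟩ := SetLike.not_le_iff_exists.1 hlag
      obtain ⟨a', ha', haa⟩ := exists_br_ne (P := P) haW
      obtain ⟨d, hd⟩ := hmid a ha
      obtain ⟨d', hd'⟩ := hmid a' ha'
      have h1 := hR.br_act x a a'
      rw [hd, hd'] at h1
      simp only [map_add, LinearMap.add_apply, map_smul, P.br_smul, smul_eq_mul, P.sing_self w0 (hTS.sing w0 hw0),
        ha' w0 hw0, P.refl w0 a (ha w0 hw0)] at h1
      have h2 : P.τ m * m = 1 := mul_right_cancel₀ haa (by linear_combination h1)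
      have hm0 : m ≠ 0 := fun h => by rw [h, mul_zero] at h2; exact zero_ne_one h2
      exact P.τ.injective (mul_right_cancel₀ hm0 (hτl.trans h2.symm))
  subst hlm
  refine ⟨l, hlW, fun a ha => ?_, fun v w hw => ?_⟩
  · obtain ⟨d, hd⟩ := hmid a ha
    rw [hd, add_sub_cancel_left]
    exact W.smul_mem _ hw0
  · have hl0 : P.τ l ≠ 0 := left_ne_zero_of_mul (hτl.trans_ne one_ne_zero)
    have h1 := hR.br_act x w v
    rw [hlW w hw, P.br_smul] at h1
    rw [map_sub, map_smul, smul_eq_mul, sub_eq_zero]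
    refine mul_left_cancel₀ hl0 (h1.trans ?_)
    rw [← mul_assoc, hτl, one_mul]

/-- a scalar is central -/
theorem mem_center_of_scalar (hR : Rich P act ε) {x : X} {l : F} (h : ∀ v, act x v = l • v) :
    x ∈ Subgroup.center X :=
  Subgroup.mem_center_iff.2 fun g => hR.inj (LinearEquiv.ext fun v => by
    rw [map_mul, map_mul, LinearEquiv.mul_apply, LinearEquiv.mul_apply, h v, h, map_smul])

/-- a `p`-regular element commuting with the elements trivial on the sections is central -/
theorem central_of_commute (hR : Rich P act ε) (hn : 3 ≤ finrank F V) (htv : HasTv P act) {W : Submodule F V}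
    (hTS : P.IsTS W) (hne : W ≠ ⊥) {x : X} (hxW : ∀ w ∈ W, act x w ∈ W)
    (hc : ∀ r ∈ radGp P act W, Commute r x) (p : ℕ) [Fact p.Prime] [CharP F p] (hx : ¬ p ∣ orderOf x) :
    x ∈ Subgroup.center X := by
  obtain ⟨l, h1, h2, h3⟩ := sections_of_commute hR hn htv hTS hne hxW hc
  haveI : Nontrivial V := Module.nontrivial_of_finrank_pos (R := F) (by omega)
  haveI : CharP (Module.End F V) p := charP_of_injective_algebraMap (algebraMap F (Module.End F V)).injective p
  obtain ⟨N, hN⟩ : ∃ N : Module.End F V, N = (act x : V →ₗ[F] V) - l • 1 := ⟨_, rfl⟩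
  have hN' : ∀ v, N v = act x v - l • v := fun v => by rw [hN]; rfl
  have hnil : N ^ 3 = 0 := LinearMap.ext fun v => by
    rw [pow_succ, pow_succ, pow_one, Module.End.mul_apply, Module.End.mul_apply, hN' v, hN', hN',
      LinearMap.zero_apply, h1 _ (h2 _ (h3 v)), sub_self]
  have hp : 3 ≤ p ^ 2 := by
    have := (Fact.out : p.Prime).two_le
    nlinarith
  have h4 : ((act x : V →ₗ[F] V) : Module.End F V) ^ p ^ 2 = l ^ p ^ 2 • 1 := by
    have h5 := sub_pow_char_pow_of_commute (R := Module.End F V) p 2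
      (x := ((act x : V →ₗ[F] V) : Module.End F V)) (y := l • 1) ((Commute.one_right _).smul_right l)
    rw [← hN, smul_pow, one_pow,
      show N ^ p ^ 2 = 0 by rw [← Nat.sub_add_cancel hp, pow_add, hnil, mul_zero]] at h5
    exact sub_eq_zero.1 h5.symm
  have h6 : ∀ (n : ℕ) (v : V), (((act x : V →ₗ[F] V) : Module.End F V) ^ n) v = act (x ^ n) v := by
    intro n v
    induction n with
    | zero => simp
    | succ n ih => rw [pow_succ', Module.End.mul_apply, ih, pow_succ', map_mul]; rfl
  have hc' : x ^ p ^ 2 ∈ Subgroup.center X := mem_center_of_scalar hR (l := l ^ p ^ 2) fun v => by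
    rw [← h6, h4]; rfl
  obtain ⟨k, hk⟩ := exists_pow_eq_self_of_coprime
    (Nat.Coprime.pow_left 2 ((Fact.out : p.Prime).coprime_iff_not_dvd.2 hx))
  exact hk ▸ pow_mem hc' k

/-- a central element fixes the singular points -/
theorem line_of_central (hR : Rich P act ε) (hn : 3 ≤ finrank F V) {z : X} (hz : z ∈ Subgroup.center X)
    {f0 : V} (hf : P.sing f0) (hf0 : f0 ≠ 0) : ∃ d : F, act z f0 = d • f0 := by
  obtain ⟨y, hy⟩ : ∃ y, y = act z f0 := ⟨_, rfl⟩
  have hy0 : y ≠ 0 := fun h => hf0 ((act z).map_eq_zero_iff.1 (hy ▸ h))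
  have hfix : ∀ k, PointTrivial P act f0 k → act k y = y := fun k hk => by
    rw [hy, ← LinearEquiv.mul_apply, ← map_mul, Subgroup.mem_center_iff.1 hz k, map_mul, LinearEquiv.mul_apply, hk.1]
  rw [← hy]
  by_contra hne
  push Not at hne
  by_cases hb : P.br f0 y = 0
  · have hyn : y ∉ Submodule.span F {f0} := fun h => by
      obtain ⟨d, hd⟩ := Submodule.mem_span_singleton.1 h
      exact hne d hd.symm
    obtain ⟨s, hs, hsy⟩ := exists_br_ne (P := P) hyn
    have hs' := P.mem_perp_singleton.1 hs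
    obtain ⟨k, -, hk⟩ := hR.eich f0 s hf0 hf hs'
    have h3 := hfix k (pointTrivial_of_eich hf hs' hk)
    exact moved_perp (mul_ne_zero hR.eps_ne fun h => hsy (P.refl _ _ h)) hne hf0 (hk _ hb) (by rw [h3])
  · obtain ⟨s, hs, hsn⟩ := exists_not_mem_span (show 2 ≤ finrank F (P.perp (Submodule.span F {f0})) by
      have := finrank_perp_point (P := P) _ hf0; omega) f0
    have hs' := P.mem_perp_singleton.1 hs
    obtain ⟨k, hk', hk⟩ := hR.eich f0 s hf0 hf hs'
    have h3 := hfix k (pointTrivial_of_eich hf hs' hk)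
    exact moved_nonperp hf hs' hsn hb hy0 hk' (by rw [h3])

/-- a central element of `p`-power order is trivial -/
theorem eq_one_of_central (hR : Rich P act ε) (hn : 3 ≤ finrank F V) (htv : HasTv P act) {e f : V}
    (he : P.sing e) (hf : P.sing f) (hef : P.br e f = 1) (p : ℕ) [Fact p.Prime] [CharP F p] {z : X}
    (hz : z ∈ Subgroup.center X) {k : ℕ} (hk : z ^ p ^ k = 1) : z = 1 := by
  have he0 : e ≠ 0 := fun h => by rw [h, map_zero, LinearMap.zero_apply] at hef; exact zero_ne_one hef
  have hf0 : f ≠ 0 := fun h => by rw [h, map_zero] at hef; exact zero_ne_one hef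
  have key : ∀ e : V, P.sing e → e ≠ 0 → ∃ l : F, act z e = l • e ∧
      (∀ a, P.br e a = 0 → ∃ d : F, act z a - l • a = d • e) ∧ ∀ v, P.br e (act z v - l • v) = 0 := by
    intro e he he0
    obtain ⟨d, hd⟩ := line_of_central hR hn hz he he0
    have hW : ∀ w ∈ Submodule.span F {e}, act z w ∈ Submodule.span F {e} := fun w hw => by
      obtain ⟨c, rfl⟩ := Submodule.mem_span_singleton.1 hw
      rw [map_smul, hd]
      exact Submodule.smul_mem _ _ (Submodule.smul_mem _ _ (Submodule.mem_span_singleton_self e))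
    obtain ⟨l, h1, h2, h3⟩ := sections_of_commute hR hn htv (Pol.isTS_span_singleton he)
      (fun h => he0 ((Submodule.mem_bot F).1 (h ▸ Submodule.mem_span_singleton_self e))) hW
      (fun r _ => Subgroup.mem_center_iff.1 hz r)
    refine ⟨l, h1 e (Submodule.mem_span_singleton_self e), fun a ha => ?_, fun v => P.mem_perp_singleton.1 (h3 v)⟩
    obtain ⟨d', hd'⟩ := Submodule.mem_span_singleton.1 (h2 a (P.mem_perp_singleton.2 ha))
    exact ⟨d', hd'.symm⟩
  obtain ⟨l, hle, hla, hlv⟩ := key e he he0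
  obtain ⟨l', hlf, hla', -⟩ := key f hf hf0
  have hll : l' = l := by
    have h := hlv f
    rwa [hlf, ← sub_smul, map_smul, hef, smul_eq_mul, mul_one, sub_eq_zero] at h
  subst hll
  have hfe : P.br f e ≠ 0 := fun h => zero_ne_one ((P.refl _ _ h).symm.trans hef)
  have hall : ∀ v, act z v = l' • v := by
    intro v
    obtain ⟨a, ha⟩ : ∃ a, a = v - P.br e v • f - (P.br f (v - P.br e v • f) / P.br f e) • e := ⟨_, rfl⟩
    have hae : P.br e a = 0 := by
      rw [ha]; simp [map_sub, map_smul, hef, P.sing_self e he]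
    have haf : P.br f a = 0 := by
      rw [ha]; simp [map_sub, map_smul, P.sing_self f hf, div_mul_cancel₀ _ hfe]
    obtain ⟨d, hd⟩ := hla a hae
    obtain ⟨d', hd'⟩ := hla' a haf
    have hd0 : d = 0 := by
      have h := congrArg (fun y => P.br f y) (hd.symm.trans hd')
      simp only [map_smul, P.sing_self f hf, smul_eq_mul, mul_zero] at h
      exact (mul_eq_zero.1 h).resolve_right hfe
    rw [hd0, zero_smul, sub_eq_zero] at hd
    have hv : v = a + P.br e v • f + (P.br f (v - P.br e v • f) / P.br f e) • e := by rw [ha]; abel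
    rw [hv]
    simp only [map_add, map_smul, hd, hle, hlf, smul_add, smul_comm l']
  have hpow : ∀ (n : ℕ) (v : V), act (z ^ n) v = l' ^ n • v := by
    intro n v
    induction n with
    | zero => simp
    | succ n ih => rw [pow_succ', map_mul, LinearEquiv.mul_apply, ih, map_smul, hall, smul_smul, ← pow_succ]
  have h := hpow (p ^ k) e
  rw [hk, map_one, LinearEquiv.coe_one, id_eq] at h
  have hl1 : l' ^ p ^ k = 1 := smul_left_injective F he0 (h.symm.trans (one_smul F e).symm)
  rw [← one_pow (p ^ k), ← iterateFrobenius_def, ← iterateFrobenius_def] at hl1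
  have hl : l' = 1 := (iterateFrobenius F p k).injective hl1
  refine hR.inj (LinearEquiv.ext fun v => ?_)
  rw [hall, hl, one_smul, map_one]
  rfl

/-- a non-trivial element of order `p` moves some vector by a singular fixed one -/
def MovesSing (P : Pol F V) (act : X →* (V ≃ₗ[F] V)) (p : ℕ) : Prop :=
  ∀ z : X, z ≠ 1 → z ^ p = 1 → ∃ v u : V, v ≠ 0 ∧ P.sing v ∧ act z v = v ∧ act z u - u = v

/-- the criterion for isometry groups and their central quotients -/
theorem crit_polar (hR : Rich P act ε) (hn : 3 ≤ finrank F V) (htv : HasTv P act) (p : ℕ) [Fact p.Prime]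
    [CharP F p] (hms : MovesSing P act p) : Crit p X := by
  refine crit_of_witness fun D hD hne => ?_
  haveI : Nontrivial ↥D := (Subgroup.nontrivial_iff_ne_bot D).2 hne
  haveI := hD.center_nontrivial
  obtain ⟨c, hc⟩ := exists_ne (1 : Subgroup.center ↥D)
  obtain ⟨k, hk0, hk⟩ : ∃ k, (c : ↥D) ^ p ^ k ≠ 1 ∧ (c : ↥D) ^ p ^ (k + 1) = 1 := by
    classical
    have hex : ∃ k, (c : ↥D) ^ p ^ k = 1 := hD c
    have h0 : Nat.find hex ≠ 0 := fun h => hc (Subtype.ext (by simpa [h] using Nat.find_spec hex))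
    exact ⟨Nat.find hex - 1, Nat.find_min hex (by omega),
      by rw [show Nat.find hex - 1 + 1 = Nat.find hex by omega]; exact Nat.find_spec hex⟩
  obtain ⟨z, hz⟩ : ∃ z : X, z = (((c : ↥D) ^ p ^ k : ↥D) : X) := ⟨_, rfl⟩
  have hzD : z ∈ D := hz ▸ Subtype.coe_prop _
  have hz1 : z ≠ 1 := fun h => hk0 (Subtype.ext (hz ▸ h))
  have hzp : z ^ p = 1 := by
    rw [hz, ← SubgroupClass.coe_pow, ← pow_mul, ← pow_succ, hk]
    rfl
  have hzc : ∀ g, (g ∈ D ∨ ∀ u ∈ D, Commute u g) → Commute z g := by
    rintro g (hg | hg)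
    · have h := Subgroup.mem_center_iff.1 (pow_mem c.2 (p ^ k)) ⟨g, hg⟩
      have h2 := (congrArg Subtype.val h).symm
      rw [Subgroup.coe_mul, Subgroup.coe_mul, ← hz] at h2
      exact h2
    · exact hg z hzD
  obtain ⟨S, hS⟩ : ∃ S : Set V, S = {v | P.sing v ∧ act z v = v ∧ ∃ u, act z u - u = v} := ⟨_, rfl⟩
  have hTS : P.IsTS (Submodule.span F S) := by
    refine P.isTS_span (fun v hv => (hS ▸ hv : _ ∈ {v | _}).1) fun v hv y hy => ?_
    rw [hS] at hv hy
    obtain ⟨-, hv, -⟩ := hv
    obtain ⟨-, -, u, rfl⟩ := hy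
    rw [map_sub, sub_eq_zero]
    conv_lhs => rw [← hv, hR.br_act]
  obtain ⟨v, u, hv0, hvs, hvf, huv⟩ := hms z hz1 hzp
  have hne' : Submodule.span F S ≠ ⊥ := fun h =>
    hv0 ((Submodule.mem_bot F).1 (h ▸ Submodule.subset_span (hS ▸ ⟨hvs, hvf, u, huv⟩)))
  have hstab : ∀ g, Commute z g → ∀ w ∈ Submodule.span F S, act g w ∈ Submodule.span F S := by
    intro g hg w hw
    induction hw using Submodule.span_induction with
    | mem y hy =>
      rw [hS] at hy ⊢
      obtain ⟨h1, h2, u, h3⟩ := hy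
      refine Submodule.subset_span ⟨(hR.sing_act g y).2 h1, ?_, act g u, ?_⟩
      · rw [← LinearEquiv.mul_apply, ← map_mul, hg.eq, map_mul, LinearEquiv.mul_apply, h2]
      · rw [← LinearEquiv.mul_apply, ← map_mul, hg.eq, map_mul, LinearEquiv.mul_apply, ← map_sub, h3]
    | zero => simp
    | add a b _ _ ha hb => rw [map_add]; exact Submodule.add_mem _ ha hb
    | smul c a _ ha => rw [map_smul]; exact Submodule.smul_mem _ c ha
  refine ⟨radGp P act (Submodule.span F S), isPGroup_radGp hR _ p, fun g hg r hr =>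
    radGp_conj hR (hstab g (hzc g hg)) (hstab g⁻¹ (hzc g hg).inv_right) hr, fun x hx hxc hxr => ?_⟩
  exact central_of_commute hR hn htv hTS hne' (hstab x (hxc z hzD)) hxr p hx

theorem crit_polar_quotient (hR : Rich P act ε) (hn : 3 ≤ finrank F V) (htv : HasTv P act) {e f : V}
    (he : P.sing e) (hf : P.sing f) (hef : P.br e f = 1) (p : ℕ) [Fact p.Prime] [CharP F p]
    (hms : MovesSing P act p) {G : Type*} [Group G] [Finite G] (π : X →* G) (hπ : Function.Surjective π)
    (hker : π.ker ≤ Subgroup.center X) : Crit p G :=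
  (crit_polar hR hn htv p hms).quotient π hπ hker fun _ hz _ hk =>
    eq_one_of_central hR hn htv he hf hef p (hker hz) hk

/-- an element of order `p` moves some vector by a non-zero fixed one -/
theorem exists_fixed_moved (hR : Rich P act ε) (p : ℕ) [Fact p.Prime] [CharP F p] {z : X} (hz1 : z ≠ 1)
    (hzp : z ^ p = 1) : ∃ v u : V, v ≠ 0 ∧ act z v = v ∧ act z u - u = v := by
  obtain ⟨u0, hu0⟩ : ∃ u, act z u - u ≠ 0 := by
    by_contra h
    push Not at h
    exact hz1 (hR.inj (LinearEquiv.ext fun v => by rw [sub_eq_zero.1 (h v), map_one]; rfl))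
  haveI : Nontrivial V := ⟨⟨_, _, hu0⟩⟩
  haveI : CharP (Module.End F V) p := charP_of_injective_algebraMap (algebraMap F (Module.End F V)).injective p
  obtain ⟨N, hN⟩ : ∃ N : Module.End F V, N = (act z : V →ₗ[F] V) - 1 := ⟨_, rfl⟩
  have hN' : ∀ v, N v = act z v - v := fun v => by rw [hN]; rfl
  have h6 : ∀ (n : ℕ) (v : V), (((act z : V →ₗ[F] V) : Module.End F V) ^ n) v = act (z ^ n) v := by
    intro n v
    induction n with
    | zero => simp
    | succ n ih => rw [pow_succ', Module.End.mul_apply, ih, pow_succ', map_mul]; rfl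
  have hex : ∃ j, ∀ v, (N ^ (j + 1)) v = 0 := by
    refine ⟨p - 1, fun v => ?_⟩
    rw [Nat.sub_add_cancel (Fact.out : p.Prime).one_le, hN,
      sub_pow_char_of_commute (p := p) (Commute.one_right _), one_pow, LinearMap.sub_apply, h6, hzp, map_one]
    simp
  classical
  have hmax := Nat.find_spec hex
  have hj : Nat.find hex ≠ 0 := fun h => hu0 (by
    have := hmax u0
    rwa [h, pow_one, hN'] at this)
  have hex2 := Nat.find_min hex (m := Nat.find hex - 1) (by omega)
  push Not at hex2
  obtain ⟨u1, hu1⟩ := hex2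
  rw [show Nat.find hex - 1 + 1 = Nat.find hex by omega] at hu1
  refine ⟨(N ^ Nat.find hex) u1, (N ^ (Nat.find hex - 1)) u1, hu1, ?_, ?_⟩
  · refine sub_eq_zero.1 ?_
    rw [← hN', ← Module.End.mul_apply, ← pow_succ']
    exact hmax u1
  · rw [← hN', ← Module.End.mul_apply, ← pow_succ', show Nat.find hex - 1 + 1 = Nat.find hex by omega]

/-- isotropic vectors singular suffices -/
theorem movesSing_of_isotropic (hR : Rich P act ε) (p : ℕ) [Fact p.Prime] [CharP F p]
    (hiso : ∀ v, P.br v v = 0 → P.sing v) : MovesSing P act p := by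
  intro z hz1 hzp
  obtain ⟨v, u, hv0, hvf, huv⟩ := exists_fixed_moved hR p hz1 hzp
  refine ⟨v, u, hv0, hiso v ?_, hvf, huv⟩
  conv_lhs => arg 2; rw [← huv]
  rw [map_sub, sub_eq_zero]
  conv_lhs => rw [← hvf, hR.br_act]

end CfsgLib.Block.DefectLie
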