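import Cfsg.Agent.Lib.Block.DefectLie.BN
import Cfsg.Agent.Lib.Lie.SylowOver.LieInst
import Cfsg.Agent.Lib.Lie.Chev.Tw.Simple

/-!
# The criterion for twisted groups and Suzuki groups
-/

set_option autoImplicit false
set_option linter.style.haveILetI false

namespace CfsgLib.Block.DefectLie

open Cfsg Cfsg.Lie CfsgLib.Lie.Chev CfsgLib.Lie.CentralAut
open scoped MatrixGroups

theorem twisted {D : ChevalleyDatum} {K : Type*} [Field K] [Fintype K] {C : Full D} {T : Twist C.G K} {ι : Type}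
    {O : Orbits C.G T.p ι} {Γ : Subgroup (GL D.Idx K)} (P : TwGp O Γ) (k : ι)
    (hirr : ∀ J : Set ι, J.Nonempty → Jᶜ.Nonempty → ∃ i ∈ J, ∃ j ∉ J, (O.wO i * O.wO j) ^ 2 ≠ 1)
    (p : ℕ) [Fact p.Prime] [CharP K p] : Crit p ↥Γ := by
  classical
  haveI : Finite (GL D.Idx K) := inferInstance
  obtain ⟨S, hS⟩ := P.exists_sylow p
  have hn : Subgroup.normalizer ((S : Subgroup ↥Γ) : Set ↥Γ) = P.bnPair.B := by
    rw [hS, P.normalizer_gU, P.bnPair_B]
  have d : SplitBN p P.bnPair S :=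
    { norm := hn
      ne_bot := ne_bot_of_S _ S hn (s := P.sGp k) ⟨_, rfl⟩
      split := fun b hb => by
        rw [P.bnPair_B] at hb
        obtain ⟨u, hu, h, hh, rfl⟩ := P.mem_gB_iff.1 hb
        refine ⟨u, hS ▸ hu, h, ⟨by rw [P.bnPair_B]; exact P.gH_le_gB hh, ?_⟩, rfl⟩
        exact P.mem_N_iff.2 (C.G.H_le_monomial hh) }
  haveI := normal_torus P.bnPair
  obtain ⟨π, hπ, hlong⟩ := T.exists_longest_Wp
  obtain ⟨n, hn', hnπ⟩ := P.toPre.exists_n hπ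
  obtain ⟨hnΓ, hnN⟩ := P.toPre.closure_nk_le hn'
  have hN : (⟨n, hnΓ⟩ : ↥Γ) ∈ P.bnPair.N := P.mem_N_iff.2 hnN
  refine crit_bn d (P.irreducible hirr) hN ?_
  rw [Subgroup.eq_bot_iff_forall]
  intro x hx
  obtain ⟨hxU, hxB⟩ := mem_St.1 hx
  have hy := d.mem_U_of_conj (g := (⟨n, hnΓ⟩ : ↥Γ)⁻¹) hxU (by simpa using hxB)
  rw [hS] at hxU hy
  have hy' : n⁻¹ * (x : GL D.Idx K) * n ∈ D.posUnipotent K := by
    have h : (((⟨n, hnΓ⟩ : ↥Γ)⁻¹ * x * (⟨n, hnΓ⟩ : ↥Γ)⁻¹⁻¹ : ↥Γ) : GL D.Idx K) ∈ D.posUnipotent K := hy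
    simpa using h
  have hU : n⁻¹ * (x : GL D.Idx K) * n ∈ (Uinv C.G π : Subgroup (GL D.Idx K)) := by
    have hle : D.posUnipotent K ≤ (Uinv C.G π : Subgroup (GL D.Idx K)) := by
      rw [C.G.posUnipotent_eq_closure, Subgroup.closure_le]
      rintro g ⟨r, t, hr, rfl⟩
      exact Subgroup.subset_closure ⟨r, t, ⟨hr, hlong r hr⟩, rfl⟩
    exact hle hy'
  have hV := C.G.conj_Uinv hnπ _ hU
  rw [show n * (n⁻¹ * (x : GL D.Idx K) * n) * n⁻¹ = (x : GL D.Idx K) by group] at hV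
  have h1 : (x : GL D.Idx K) ∈ D.posUnipotent K ⊓ D.negUnipotent K := Subgroup.mem_inf.2 ⟨hxU, hV⟩
  rw [C.G.U_inf_V_eq, Subgroup.mem_bot] at h1
  exact Subtype.ext h1

section Suzuki

open CfsgLib.Lie.Suz

variable {F : Type*} [Field F] [Fintype F] {m : ℕ}

/-- a non-trivial subgroup of the unipotent group of a Suzuki group fixes only the base point -/
theorem suzuki (hm : 1 ≤ m) (hF : Fintype.card F = 2 ^ (2 * m + 1)) : Crit 2 (Cfsg.Sz F m) := by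
  have hS := isSuzField hF
  haveI : Fact (Nat.Prime 2) := ⟨Nat.prime_two⟩
  intro D hD hne
  obtain ⟨S, hS1⟩ := hD.exists_le_sylow
  obtain ⟨V, hVU⟩ : ∃ V : Sylow 2 (Cfsg.Sz F m), (V : Subgroup (Cfsg.Sz F m)) = U hF :=
    ⟨(U_isPGroup hF).toSylow (U_index_not_dvd hm hF), rfl⟩
  obtain ⟨g, hg⟩ := MulAction.exists_smul_eq (Cfsg.Sz F m) S V
  by_cases hDS : (S : Subgroup (Cfsg.Sz F m)) = D
  · exact Or.inl ⟨S, hDS⟩
  refine Or.inr ⟨S, S.isPGroup', hS1, fun x _ hxc hxe => absurd ?_ hDS⟩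
  have hfixinf : ∀ u ∈ U hF, u • suzukiPointInfinity F = suzukiPointInfinity F := by
    rintro u ⟨a, b, hu⟩
    show (u : SL(4, F)) • suzukiPointInfinity F = _
    rw [show (u : SL(4, F)) = T m a b from hu, T_inf]
  have hTS : ∀ a b y z, TS hF a b • pt m y z = pt m (y + a) (z + th m a * y + b) := fun a b y z => T_pt hS a b y z
  -- the centralizer fixes the point of `S`
  have hpt : ∀ u ∈ U hF, u ≠ 1 → ∀ h : Cfsg.Sz F m, u • (h • suzukiPointInfinity F) = h • suzukiPointInfinity F →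
      h • suzukiPointInfinity F = suzukiPointInfinity F := by
    intro u hu hu1 h hfix
    rcases (ovoid_iff ((h : SL(4, F)) • suzukiPointInfinity F)).1 (smul_mem_ovoid h.2 ovoid_inf) with e | ⟨y, z, e⟩
    · exact e
    · exfalso
      obtain ⟨a, b, hab⟩ := hu
      have hu' : u = TS hF a b := Subtype.ext hab
      rw [show h • suzukiPointInfinity F = pt m y z from e, hu', hTS] at hfix
      obtain ⟨h1, h2⟩ := pt_inj hfix
      have ha : a = 0 := by simpa using h1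
      subst ha
      have hb : b = 0 := by simpa [th_zero hS] using h2
      subst hb
      exact hu1 (by rw [hu']; exact Subtype.ext T_zero)
  obtain ⟨d, hd⟩ := Subgroup.ne_bot_iff_exists_ne_one.1 hne
  have hgS : ∀ s ∈ (S : Subgroup (Cfsg.Sz F m)), g * s * g⁻¹ ∈ U hF := fun s hs => by
    rw [← hVU, ← hg]
    exact ⟨s, hs, rfl⟩
  have hgU : ∀ u ∈ U hF, g⁻¹ * u * g ∈ (S : Subgroup (Cfsg.Sz F m)) := fun u hu => by
    rw [← hVU, ← hg] at hu
    obtain ⟨s, hs, rfl⟩ := hu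
    show g⁻¹ * (g * s * g⁻¹) * g ∈ (S : Subgroup (Cfsg.Sz F m))
    rw [show g⁻¹ * (g * s * g⁻¹) * g = s by group]
    exact hs
  have hx' : (g * x * g⁻¹) • suzukiPointInfinity F = suzukiPointInfinity F := by
    refine hpt (g * d * g⁻¹) (hgS _ (hS1 d.2)) (fun h => hd (Subtype.ext (conj_eq_one_iff.1 h))) _ ?_
    rw [← mul_smul, show g * d * g⁻¹ * (g * x * g⁻¹) = (g * x * g⁻¹) * (g * d * g⁻¹) by
      rw [show g * d * g⁻¹ * (g * x * g⁻¹) = g * (d * x) * g⁻¹ by group, (hxc _ d.2).eq]; group,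
      mul_smul, hfixinf _ (hgS _ (hS1 d.2))]
  refine le_antisymm (fun s hs => hxe.le (Subgroup.mem_inf.2 ⟨hs, x⁻¹ * s * x, ?_, by simp [mul_assoc]⟩)) hS1
  have h1 := normalizes_of_mem_stab hm hF (g := g * x * g⁻¹)
    (show g * x * g⁻¹ ∈ MulAction.stabilizer _ _ from hx') (hgS s hs)
  have h2 := hgU _ h1
  rwa [show g⁻¹ * ((g * x * g⁻¹)⁻¹ * (g * s * g⁻¹) * (g * x * g⁻¹)) * g = x⁻¹ * s * x by group] at h2

end Suzuki

end CfsgLib.Block.DefectLie
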